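import Groth.Agent.MTCentre.Centre

/-!
# Existence of the reductive centre
-/

set_option autoImplicit false
set_option linter.style.haveILetI false
set_option backward.isDefEq.respectTransparency false
set_option maxHeartbeats 1000000
set_option synthInstance.maxHeartbeats 400000

universe u

noncomputable section

open CategoryTheory Limits MonoidalCategory CartesianMonoidalCategory MonObj GrpObj AlgebraicGeometry
open scoped CategoryTheory.Obj

namespace Groth.Agent.MTCentre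

open Groth.Agent.MTBridge Groth.Agent.Chev Groth.Agent.MTImage

variable {S : Scheme.{u}}

/-- Reductive centres pass along isomorphisms of groups. -/
theorem HasRedCentre.of_iso {G G' : Over S} [GrpObj G] [GrpObj G'] (e : G ≅ G') [IsMonHom e.hom]
    (h : HasRedCentre G) : HasRedCentre G' := by
  obtain ⟨Z, hZg, z, hzm, hzmono, hzt, hzc, hzu⟩ := h
  haveI := hzm
  haveI := hzmono
  haveI : IsMonHom e.inv := inferInstance
  refine ⟨Z, hZg, z ≫ e.hom, inferInstance, mono_comp _ _, hzt, fun X x g => ?_, fun S' f H _ b hb hH hbc => ?_⟩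
  · rw [← cancel_mono e.inv, MonObj.mul_comp, MonObj.mul_comp]
    simp only [Category.assoc, Iso.hom_inv_id, Category.comp_id]
    exact hzc X x _
  haveI := hb
  have he : toBC f (b ≫ e.inv) = toBC f b ≫ (Over.pullback f).map e.inv := toBC_comp f _ b
  haveI : IsMonHom (toBC f (b ≫ e.inv)) := by rw [he]; infer_instance
  obtain ⟨y, hy⟩ := hzu S' f H (b ≫ e.inv) inferInstance hH fun X x g => by
    obtain ⟨g', rfl⟩ : ∃ g', g' ≫ (Over.pullback f).map e.inv = g :=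
      ⟨g ≫ (Over.pullback f).map e.hom, by
        rw [Category.assoc, ← Functor.map_comp, e.hom_inv_id, CategoryTheory.Functor.map_id, Category.comp_id]⟩
    rw [he, ← Category.assoc x, ← MonObj.mul_comp, ← MonObj.mul_comp, hbc]
  exact ⟨y, by rw [← Category.assoc, hy, Category.assoc, e.inv_hom_id, Category.comp_id]⟩

theorem isTorus_DS_scheme (S : Scheme.{u}) (r : ℕ) : Red.IsTorus (Red.DS S (Fin r → ℤ)) :=
  ⟨S, 𝟙 S, inferInstance, inferInstance, fun V hV => ⟨V, hV.isCompact, Set.image_id _⟩,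
    fun _ => ⟨⊤, trivial, r, ⟨bcDS _ _⟩⟩⟩

/-- **The reductive centre.** -/
theorem exists_reductiveCentre {G : Over S} [GrpObj G] [Smooth G.hom] [IsAffineHom G.hom]
    (hconn : ∀ s : S, _root_.IsConnected (G.hom.base ⁻¹' {s})) (hr : SGA3x.RedRankLocallyConstant G) :
    ∃ (Z : Over S) (_ : GrpObj Z) (z : Z ⟶ G), (IsMonHom z ∧ Mono z ∧ SGA3x.IsMultTypeFT Z ∧
      (∀ (X : Over S) (x : X ⟶ Z) (g : X ⟶ G), (x ≫ z) * g = g * (x ≫ z)) ∧
      ∀ (S' : Scheme.{u}) (f : S' ⟶ S) (H : Over S') [GrpObj H] (v : H ⟶ Red.bc f G) [IsMonHom v],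
        SGA3x.IsMultTypeFT H →
        (∀ (X : Over S') (x : X ⟶ H) (g : X ⟶ Red.bc f G), (x ≫ v) * g = g * (x ≫ v)) →
        ∃ w : H ⟶ Red.bc f Z, w ≫ (Over.pullback f).map z = v) := by
  obtain ⟨S₁, f₁, hf₁, hs₁, T, hTg, i, hi⟩ := TorusLift.hasMaxTorusEtaleLocally hr
  haveI := hf₁; haveI := hs₁; haveI := hi.1; haveI := hi.2.1
  obtain ⟨S₂, π, hπf, hπs, hπc, hloc⟩ := hi.2.2.1
  haveI := hπf; haveI := hπs
  choose U hU r hsplit using hloc
  have hW : ∀ z : S₂, ∃ W : S₂.Opens, IsAffineOpen W ∧ z ∈ W ∧ W ≤ U z := fun z => by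
    obtain ⟨_, ⟨W, hW, rfl⟩, hzW, hWU⟩ := S₂.isBasis_affineOpens.exists_subset_of_mem_open (hU z) (U z).2
    exact ⟨W, hW, hzW, hWU⟩
  choose W hWa hzW hWU using hW
  haveI : LocallyOfFiniteType (Red.bc f₁ G).hom := inferInstanceAs (LocallyOfFiniteType (pullback.snd G.hom f₁))
  haveI : QuasiCompact (Red.bc f₁ G).hom := inferInstanceAs (QuasiCompact (pullback.snd G.hom f₁))
  have hloc : ∀ z : S₂, ∃ V : (W z : Scheme.{u}).Opens, (⟨z, hzW z⟩ : (W z : Scheme.{u})) ∈ V ∧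
      HasRedCentre (Red.bc (V.ι ≫ (W z).ι ≫ π ≫ f₁) G) := fun z => by
    haveI : IsAffine (W z : Scheme.{u}) := hWa z
    let j := (W z).ι ≫ π
    let F := j ≫ f₁
    haveI : IsAffineHom (Red.bc F G).hom := MorphismProperty.pullback_snd (P := @IsAffineHom) G.hom F ‹_›
    haveI : Smooth (Red.bc F G).hom := inferInstanceAs (Smooth (pullback.snd G.hom F))
    haveI : LocallyOfFiniteType (Red.bc F G).hom := inferInstance
    haveI : QuasiCompact (Red.bc F G).hom := inferInstanceAs (QuasiCompact (pullback.snd G.hom F))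
    obtain ⟨eT⟩ := nonempty_bc_split (H := T) (hsplit z) (S₂.homOfLE (hWU z))
    let eT' : Grp.mk (Red.bc j T) ≅ Grp.mk (Red.DS (W z : Scheme.{u}) (Fin (r z) → ℤ)) :=
      bcCongr (by simp [j]) T ≪≫ eT
    let a : Red.bc j T ≅ Red.DS (W z : Scheme.{u}) (Fin (r z) → ℤ) := (Grp.forget _).mapIso eT'
    haveI : IsMonHom a.hom := eT'.hom.hom.isMonHom_hom
    obtain ⟨b, -, hb⟩ := MaxTorusBC.exists_trIso (show j ≫ f₁ = F from rfl) G
    haveI : IsMonHom b.hom := hb
    haveI : IsMonHom b.symm.hom := inferInstanceAs (IsMonHom b.inv)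
    have hi' : Red.IsMaximalTorus (a.inv ≫ (Over.pullback j).map i ≫ b.inv) :=
      isMaximalTorus_iso a b.symm ((Over.pullback j).map i) _ (by simp) (isTorus_DS_scheme _ _)
        (MaxTorusBC.isMaximalTorus_bc i hi j)
    obtain ⟨V, hV, hc⟩ := exists_centre_nhd (isConnected_fibre_bc G hconn F) _ hi' ⟨z, hzW z⟩
    refine ⟨V, hV, ?_⟩
    obtain ⟨e, -, hem⟩ := MaxTorusBC.exists_trIso (show V.ι ≫ F = V.ι ≫ (W z).ι ≫ π ≫ f₁ by simp [F, j]) G
    haveI : IsMonHom e.hom := hem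
    haveI : IsMonHom e.symm.hom := inferInstanceAs (IsMonHom e.inv)
    exact hc.of_iso e.symm
  choose V hzV hV using hloc
  let ρ : ∀ z : S₂, (V z : Scheme.{u}) ⟶ S₂ := fun z => (V z).ι ≫ (W z).ι
  let f : (∐ fun z => (V z : Scheme.{u})) ⟶ S := Sigma.desc fun z => (V z).ι ≫ (W z).ι ≫ π ≫ f₁
  let ρ' := Sigma.desc ρ
  have hf : f = ρ' ≫ π ≫ f₁ := Sigma.hom_ext _ _ fun z => by simp [f, ρ', ρ]
  haveI : Etale ρ' := IsZariskiLocalAtSource.sigmaDesc (P := @Etale) fun z => inferInstance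
  haveI : Surjective ρ' := ⟨fun z => ⟨Sigma.ι (fun z => (V z : Scheme.{u})) z ⟨⟨z, hzW z⟩, hzV z⟩, by
    rw [← Scheme.Hom.comp_apply, Sigma.ι_desc]
    rfl⟩⟩
  obtain ⟨Z', hZg, z', hzm, hzmono, hzt, hzc, hzu⟩ := hasRedCentre_sigma _ hV
  haveI : Flat f := by rw [hf]; infer_instance
  haveI : Surjective f := by rw [hf]; infer_instance
  have hcov : ∀ A : S.Opens, IsAffineOpen A →
      ∃ W' : (∐ fun z => (V z : Scheme.{u})).Opens, IsCompact (W' : Set ↥(∐ fun z => (V z : Scheme.{u}))) ∧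
        f.base '' (W' : Set ↥(∐ fun z => (V z : Scheme.{u}))) = (A : Set S) := fun A hA => by
    obtain ⟨A₁, hA₁, hA₁'⟩ := TorusLift.exists_qc_lift f₁ A hA
    obtain ⟨A₂, hA₂, hA₂'⟩ := exists_compact_cover π hπc A₁ hA₁
    obtain ⟨A₃, hA₃, hA₃'⟩ := exists_compact_lift ρ' A₂ hA₂
    refine ⟨A₃, hA₃, ?_⟩
    rw [hf, ← hA₁', ← hA₂', ← hA₃', Set.image_image, Set.image_image]
    rfl
  refine Groth.Agent.S8439.result S G (fun s => isAffine_of_isAffineHom (pullback.snd G.hom (S.fromSpecResidueField s)))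
    ⟨_, f, inferInstance, inferInstance, hcov, Z', hZg, z', hzm, hzmono, hzt, hzc, fun S'' f' H _ v hv hH hvc => ?_⟩
  obtain ⟨b, rfl⟩ := exists_toBC' f' v
  obtain ⟨y, hy⟩ := hzu S'' f' H b hv hH hvc
  exact ⟨toBC f' y, by rw [← toBC_comp, hy]⟩

end Groth.Agent.MTCentre
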