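import Groth.Agent.MTCentre.Grading
import Groth.Agent.MTCentre.Main
import Groth.Agent.TorusLift.NilRank
import Groth.Agent.MTImage.ToriConj
import Groth.Agent.S8407

/-!
# Groups of unipotent rank zero
-/

set_option autoImplicit false
set_option linter.style.haveILetI false
set_option backward.isDefEq.respectTransparency false
set_option maxHeartbeats 1000000
set_option synthInstance.maxHeartbeats 400000

universe u

noncomputable section

open CategoryTheory Limits MonoidalCategory CartesianMonoidalCategory MonObj GrpObj AlgebraicGeometry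
open scoped CategoryTheory.Obj

namespace Groth.Agent.MTCentre

open Groth.Agent.MTBridge Groth.Agent.Chev Groth.Agent.MTImage

variable {S : Scheme.{u}}

/-- In every algebraically closed fibre the maximal tori are their own centralizers. -/
def CartanIsTorus (G : Over S) [GrpObj G] : Prop :=
  ∀ (L : Type u) [Field L] [IsAlgClosed L] (y : Spec (CommRingCat.of L) ⟶ S)
    (T : Over (Spec (CommRingCat.of L))) [GrpObj T] (i : T ⟶ Red.bc y G),
    Red.IsMaximalTorus i → Red.IsCentralizerOf i i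

/-- A subgroup isomorphic to the centralizer is a centralizer. -/
theorem isCentralizerOf_of_iso {T G C : Over S} [GrpObj T] [GrpObj G] [GrpObj C] (i : T ⟶ G) [IsMonHom i] [Mono i]
    (c : C ⟶ G) (hC : Red.IsCentralizerOf i c) (k : T ⟶ C) [IsIso k] (hk : k ≫ c = i) : Red.IsCentralizerOf i i :=
  ⟨inferInstance, inferInstance, fun X g => ⟨fun ⟨t, ht⟩ => (hC.2.2 X g).1 ⟨t ≫ k, by rw [Category.assoc, hk, ht]⟩,
    fun h => by
      obtain ⟨w, hw⟩ := (hC.2.2 X g).2 h
      exact ⟨w ≫ inv k, by rw [Category.assoc, ← hk, IsIso.inv_hom_id_assoc, hw]⟩⟩⟩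

/-- A torus lies in its centralizer. -/
theorem exists_to_centralizer {T G C : Over S} [GrpObj T] [GrpObj G] [GrpObj C] (i : T ⟶ G) [IsMonHom i]
    (hT : Red.IsTorus T) (c : C ⟶ G) (hC : Red.IsCentralizerOf i c) : ∃ k : T ⟶ C, k ≫ c = i :=
  (hC.2.2 T i).2 fun X' x h => by
    rw [← MonObj.mul_comp, ← MonObj.mul_comp,
      comm_points_scheme T (locally_of_isMultTypeFT' T (isMultTypeFT_of_isTorus T hT))]

section

variable {G : Over S} [GrpObj G] [IsAffineHom G.hom] [Smooth G.hom]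

theorem cartanIsTorus_of_urz (hconn : ∀ s : S, _root_.IsConnected (G.hom.base ⁻¹' {s}))
    (hu : SGA3x.UnipotentRankZero G) : CartanIsTorus G := by
  intro L _ _ y T _ i hi
  haveI := hi.1; haveI := hi.2.1
  haveI : Smooth (Red.bc y G).hom := inferInstanceAs (Smooth (pullback.snd G.hom y))
  haveI : IsAffineHom (Red.bc y G).hom := inferInstanceAs (IsAffineHom (pullback.snd G.hom y))
  haveI : QuasiCompact (Red.bc y G).hom := inferInstance
  haveI : IsAffine (Red.bc y G).left := isAffine_of_isAffineHom (Red.bc y G).hom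
  haveI := TorusLift.connectedSpace_bc_geom hconn y
  obtain ⟨C, _, c, hC, hcc, hCs⟩ := exists_centralizer T (Red.bc y G)
    (locally_of_isMultTypeFT' T (isMultTypeFT_of_isTorus T hi.2.2.1)) inferInstance inferInstance i
  haveI := hC.1; haveI := hC.2.1; haveI := hcc; haveI := hCs
  obtain ⟨k, hk⟩ := exists_to_centralizer i hi.2.2.1 c hC
  let t := y (IsLocalRing.closedPoint L)
  obtain ⟨T₀, _, i₀, hi₀, hdim⟩ := TorusLift.exists_maxTorus_of_point y i hi (Red.geomPt t)
    (geomPt_closedPoint t).symm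
  have hd : topologicalKrullDim ↥C.left = topologicalKrullDim ↥T₀.left :=
    TorusLift.dim_cartan_eq_of_point y (Red.geomPt t) (geomPt_closedPoint t).symm c
      ⟨inferInstance, inferInstance, T, inferInstance, i, hi, hC⟩ i₀
      ⟨hi₀.1, hi₀.2.1, T₀, inferInstance, i₀, hi₀, hu t T₀ i₀ hi₀⟩
  haveI := smooth_of_isTorus hi.2.2.1
  haveI := connectedSpace_of_isTorus hi.2.2.1
  haveI := isAffine_of_isTorus hi.2.2.1
  haveI := locallyOfFiniteType_of_isTorus hi.2.2.1
  haveI : IsAffine C.left := isAffine_of_isAffineHom c.left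
  haveI : QuasiCompact C.hom := by rw [← Over.w c]; infer_instance
  haveI : ConnectedSpace ↥C.left := (Groth.Agent.S8407.result L (Red.bc y G) T i hi.2.2.1 C c hC).2
  haveI : IsMonHom k := MTSplit.isMonHom_of_comp_mono k c i hk
  haveI : IsClosedImmersion i.left := isClosedImmersion_of_mono
    (locally_of_isMultTypeFT' T (isMultTypeFT_of_isTorus T hi.2.2.1)) inferInstance i
  haveI : IsClosedImmersion (k.left ≫ c.left) := by rw [← Over.comp_left, hk]; infer_instance
  haveI : IsClosedImmersion k.left := IsClosedImmersion.of_comp k.left c.left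
  haveI : IsIso k := Chev.isIso_of_dim_eq k (by rw [hd, hdim])
  exact isCentralizerOf_of_iso i c hC k hk

/-- **Unipotent rank zero forces a locally constant reductive rank.** -/
theorem redRankLocallyConstant_of_urz (hconn : ∀ s : S, _root_.IsConnected (G.hom.base ⁻¹' {s}))
    (hu : SGA3x.UnipotentRankZero G) : SGA3x.RedRankLocallyConstant G := by
  intro s
  haveI : Smooth (Red.geomFibre s G).hom := inferInstanceAs (Smooth (pullback.snd _ _))
  haveI : QuasiCompact (Red.geomFibre s G).hom := inferInstanceAs (QuasiCompact (pullback.snd _ _))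
  haveI : ConnectedSpace ↥(Red.geomFibre s G).left := TorusLift.connectedSpace_bc_geom hconn (Red.geomPt s)
  obtain ⟨T₀, _, i₀, hi₀'⟩ := exists_maxTorus_general (Red.geomFibre s G)
  haveI := hi₀'.1; haveI := hi₀'.2.1
  obtain ⟨U, hsU, hU⟩ := exists_nhd_rank (Red.geomPt s) i₀ hi₀'.2.2.1 i₀ (hu s T₀ i₀ hi₀')
  rw [geomPt_closedPoint] at hsU
  refine ⟨U, hsU, topologicalKrullDim ↥T₀.left, fun t ht => ?_⟩
  obtain ⟨T', _, i', C', _, c', hi', hc', h1, h2⟩ := hU _ (Red.geomPt t) (by rw [geomPt_closedPoint]; exact ht)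
  refine ⟨T', inferInstance, i', hi', le_antisymm ?_ h1⟩
  obtain ⟨hcm, hcmono, T'', _, i'', hi'', hC⟩ := hc'
  haveI := hi''.1; haveI := hi''.2.1; haveI := hcm; haveI := hcmono
  haveI : Smooth (Red.geomFibre t G).hom := inferInstanceAs (Smooth (pullback.snd _ _))
  haveI : QuasiCompact (Red.geomFibre t G).hom := inferInstanceAs (QuasiCompact (pullback.snd _ _))
  haveI : IsAffineHom (Red.geomFibre t G).hom := inferInstanceAs (IsAffineHom (pullback.snd G.hom (Red.geomPt t)))
  obtain ⟨k, hk⟩ := exists_to_centralizer i'' hi''.2.2.1 c' hC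
  haveI : IsClosedImmersion i''.left := isClosedImmersion_of_mono
    (locally_of_isMultTypeFT' T'' (isMultTypeFT_of_isTorus T'' hi''.2.2.1)) inferInstance i''
  have hind : Topology.IsInducing (c'.left ∘ k.left) := by
    have := i''.left.isClosedEmbedding.isInducing
    rw [← hk] at this
    exact this
  have h3 : topologicalKrullDim ↥T''.left ≤ topologicalKrullDim ↥C'.left :=
    (Topology.IsInducing.of_comp k.left.continuous c'.left.continuous hind).topologicalKrullDim_le
  rw [TorusLift.dim_maxTori_eq i' hi' i'' hi'']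
  exact h3.trans h2

omit [IsAffineHom G.hom] [Smooth G.hom] in
theorem cartanIsTorus_bc (h : CartanIsTorus G) {W : Scheme.{u}} (F : W ⟶ S) :
    CartanIsTorus (Red.bc F G) := by
  intro L _ _ y T _ i hi
  obtain ⟨e, -, he⟩ := MaxTorusBC.exists_trIso (show y ≫ F = y ≫ F from rfl) G
  haveI : IsMonHom e.hom := he
  haveI : IsMonHom e.symm.hom := inferInstanceAs (IsMonHom e.inv)
  haveI : IsMonHom e.inv := inferInstance
  haveI : IsMonHom (Iso.refl T).hom := inferInstanceAs (IsMonHom (𝟙 T))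
  haveI := hi.1; haveI := hi.2.1
  obtain ⟨-, -, hc⟩ := h L (y ≫ F) T (i ≫ e.inv)
    (isMaximalTorus_iso (Iso.refl T) e.symm i _ (by rw [Iso.refl_hom, Category.id_comp]; rfl) hi.2.2.1 hi)
  refine ⟨hi.1, hi.2.1, fun X g => ⟨fun ⟨t, ht⟩ X' x a => ?_, fun hg => ?_⟩⟩
  · have := (hc X (g ≫ e.inv)).1 ⟨t, by rw [← Category.assoc, ht]⟩ X' x a
    rw [← Category.assoc, ← Category.assoc, ← MonObj.mul_comp, ← MonObj.mul_comp, cancel_mono] at this
    exact this
  · obtain ⟨t, ht⟩ := (hc X (g ≫ e.inv)).2 fun X' x a => by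
      rw [← Category.assoc, ← Category.assoc, ← MonObj.mul_comp, ← MonObj.mul_comp, hg]
    rw [← Category.assoc, cancel_mono] at ht
    exact ⟨t, ht⟩

/-- **A maximal torus is its own centralizer.** -/
theorem centralizer_self (hconn : ∀ s : S, _root_.IsConnected (G.hom.base ⁻¹' {s})) (hct : CartanIsTorus G)
    {T : Over S} [GrpObj T] (i : T ⟶ G) (hi : Red.IsMaximalTorus i) : Red.IsCentralizerOf i i := by
  haveI := hi.1; haveI := hi.2.1
  have hTm := isMultTypeFT_of_isTorus T hi.2.2.1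
  obtain ⟨C, _, c, hC, hcc, hCs⟩ := exists_centralizer T G (locally_of_isMultTypeFT' T hTm) inferInstance inferInstance i
  haveI := hC.1; haveI := hC.2.1; haveI := hcc; haveI := hCs
  obtain ⟨k, hk⟩ := exists_to_centralizer i hi.2.2.1 c hC
  haveI : IsMonHom k := MTSplit.isMonHom_of_comp_mono k c i hk
  haveI : Mono (k ≫ c) := by rw [hk]; infer_instance
  haveI : Mono k := mono_of_mono k c
  have hiso : ∀ t : S, IsIso ((Over.pullback (Red.geomPt t)).map k) := fun t => by
    let q := Red.geomPt t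
    haveI : PreservesLimitsOfShape WalkingCospan (Over.pullback q) :=
      (Adjunction.rightAdjoint_preservesLimits (Over.mapPullbackAdj q)).preservesLimitsOfShape
    obtain ⟨-, -, hc'⟩ := hct _ q _ _ (MaxTorusBC.isMaximalTorus_bc i hi q)
    have hC' := Chev.CentBC.isCentralizerOf_bc q i c hC
    haveI := hC'.2.1
    obtain ⟨w, hw⟩ := (hc' _ ((Over.pullback q).map c)).2 ((hC'.2.2 _ _).1 ⟨𝟙 _, Category.id_comp _⟩)
    haveI : IsSplitEpi ((Over.pullback q).map k) := ⟨⟨⟨w, by
      rw [← cancel_mono ((Over.pullback q).map c), Category.assoc, ← Functor.map_comp, hk, hw, Category.id_comp]⟩⟩⟩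
    exact isIso_of_mono_of_isSplitEpi _
  haveI := smooth_torus hi.2.2.1
  haveI : IsAffineHom T.hom := MTBridge.isAffineHom T hTm
  haveI : IsAffineHom C.hom := by rw [← Over.w c]; infer_instance
  haveI : ∀ t : S, ConnectedSpace ↥(Red.geomFibre t T).left := fun t =>
    connectedSpace_of_isTorus (Borel.isTorus_bc_scheme T (Red.geomPt t) hi.2.2.1)
  haveI : ∀ t : S, ConnectedSpace ↥(Red.geomFibre t C).left := fun t => by
    haveI := hiso t
    let e : ↥(Red.geomFibre t T).left ≃ₜ ↥(Red.geomFibre t C).left :=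
      Scheme.homeoOfIso ((Over.forget _).mapIso (asIso ((Over.pullback (Red.geomPt t)).map k)))
    exact e.surjective.connectedSpace e.continuous
  choose U hU hUiso using fun t : S => exists_nhd_iso_of_geom k (fun t => TorusLift.isConnected_fibre_of_geom t)
    (fun t => TorusLift.isConnected_fibre_of_geom t) t
    (haveI := hiso t; inferInstanceAs (IsIso ((Over.forget _).map ((Over.pullback (Red.geomPt t)).map k))))
  haveI : IsIso k.left := by
    let 𝒰 := (Scheme.openCoverOfIsOpenCover S U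
      (eq_top_iff.2 fun x _ => TopologicalSpace.Opens.mem_iSup.2 ⟨x, hU x⟩)).pullback₁ C.hom
    refine (MorphismProperty.isomorphisms.iff _).1
      (IsZariskiLocalAtTarget.of_openCover (P := MorphismProperty.isomorphisms Scheme.{u}) 𝒰 fun t => ?_)
    haveI := hUiso t
    haveI h1 : IsIso ((Over.pullback (U t).ι).map k).left :=
      inferInstanceAs (IsIso ((Over.forget _).map ((Over.pullback (U t).ι).map k)))
    have hsq := isPullback_of_squares (IsPullback.of_hasPullback T.hom (U t).ι)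
      (IsPullback.of_hasPullback C.hom (U t).ι) k _ (map_left_fst (U t).ι k) (map_left_snd (U t).ι k)
    refine (MorphismProperty.isomorphisms.iff _).2 ?_
    show IsIso (pullback.snd k.left (pullback.fst C.hom (U t).ι))
    rw [← hsq.flip.isoPullback_inv_snd]
    infer_instance
  haveI : IsIso ((Over.forget S).map k) := ‹IsIso k.left›
  haveI : IsIso k := isIso_of_reflects_iso k (Over.forget S)
  exact isCentralizerOf_of_iso i c hC k hk

end

/-- Factorizations through a monomorphism glue. -/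
theorem exists_factor_of_cover {Y G Z : Over S} (z : Z ⟶ G) [Mono z] (g : Y ⟶ G)
    (h : ∀ y : Y.left, ∃ O : Y.left.Opens, y ∈ O ∧ ∃ a : O.toScheme ⟶ Z.left, a ≫ z.left = O.ι ≫ g.left) :
    ∃ w : Y ⟶ Z, w ≫ z = g := by
  haveI : Mono z.left := inferInstance
  choose O hO a ha using h
  let 𝒰 := Scheme.openCoverOfIsOpenCover Y.left O
    (eq_top_iff.2 fun y _ => TopologicalSpace.Opens.mem_iSup.2 ⟨y, hO y⟩)
  have hcompat : ∀ i j, pullback.fst (𝒰.f i) (𝒰.f j) ≫ a i = pullback.snd _ _ ≫ a j := fun i j => by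
    rw [← cancel_mono z.left, Category.assoc, Category.assoc, ha, ha]
    show _ ≫ 𝒰.f i ≫ g.left = _ ≫ 𝒰.f j ≫ g.left
    rw [pullback.condition_assoc]
  let r := Scheme.Cover.glueMorphisms 𝒰 a hcompat
  have hr : r ≫ z.left = g.left := Scheme.Cover.hom_ext 𝒰 _ _ fun i => by
    rw [← Category.assoc, Scheme.Cover.ι_glueMorphisms 𝒰 a hcompat i]
    exact ha i
  exact ⟨Over.homMk r (by rw [← Over.w z, reassoc_of% hr, Over.w g]), Over.OverMorphism.ext hr⟩

/-- **In unipotent rank zero the reductive centre is the centre.** -/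
theorem isCentre_of_redCentre {G Z : Over S} [GrpObj G] [GrpObj Z] [IsAffineHom G.hom] [Smooth G.hom]
    (hconn : ∀ s : S, _root_.IsConnected (G.hom.base ⁻¹' {s})) (hu : SGA3x.UnipotentRankZero G) (z : Z ⟶ G)
    [IsMonHom z] [Mono z] (hc : ∀ (X : Over S) (x : X ⟶ Z) (g : X ⟶ G), (x ≫ z) * g = g * (x ≫ z))
    (huniv : ∀ (S' : Scheme.{u}) (f : S' ⟶ S) (H : Over S') [GrpObj H] (v : H ⟶ Red.bc f G) [IsMonHom v],
        SGA3x.IsMultTypeFT H →
        (∀ (X : Over S') (x : X ⟶ H) (g : X ⟶ Red.bc f G), (x ≫ v) * g = g * (x ≫ v)) →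
        ∃ w : H ⟶ Red.bc f Z, w ≫ (Over.pullback f).map z = v) : Red.IsCentre z := by
  refine ⟨inferInstance, inferInstance, fun X g => ⟨fun ⟨a, ha⟩ X' x h => ?_, fun hg => ?_⟩⟩
  · rw [← ha, Category.comp_id, ← Category.assoc]
    exact hc X' (x ≫ a) h
  simp only [Category.comp_id] at hg
  obtain ⟨S₁, f₁, hf₁, hs₁, T, hTg, i, hi⟩ := TorusLift.hasMaxTorusEtaleLocally (redRankLocallyConstant_of_urz hconn hu)
  haveI := hf₁; haveI := hs₁; haveI := hi.1; haveI := hi.2.1
  obtain ⟨S₂, π, hπf, hπs, hπc, hloc⟩ := hi.2.2.1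
  haveI := hπf; haveI := hπs
  choose U hU r hsplit using hloc
  let Y : Over S := Over.mk (pullback.fst X.hom (π ≫ f₁) ≫ X.hom)
  let p : Y ⟶ X := Over.homMk (pullback.fst X.hom (π ≫ f₁)) rfl
  have hp : CoverMap.Covers p.left := by
    refine CoverMap.Covers.of_isPullback (f := π ≫ f₁) ?_ (IsPullback.of_hasPullback X.hom (π ≫ f₁))
    refine CoverMap.covers_of_hcov ⟨S₂, π ≫ f₁, 𝟙 _, Category.id_comp _, inferInstance, inferInstance, fun A hA => ?_⟩
    obtain ⟨A₁, hA₁, hA₁'⟩ := TorusLift.exists_qc_lift f₁ A hA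
    obtain ⟨A₂, hA₂, hA₂'⟩ := exists_compact_cover π hπc A₁ hA₁
    refine ⟨A₂, hA₂, ?_⟩
    rw [← hA₁', ← hA₂', Set.image_image]
    rfl
  obtain ⟨b, hb⟩ : ∃ b : Y ⟶ Z, b ≫ z = p ≫ g := by
    refine exists_factor_of_cover z (p ≫ g) fun y => ?_
    let y₂ : S₂ := pullback.snd X.hom (π ≫ f₁) y
    obtain ⟨W, hW, hyW, hWU⟩ : ∃ W : S₂.Opens, IsAffineOpen W ∧ y₂ ∈ W ∧ W ≤ U y₂ := by
      obtain ⟨_, ⟨W, hW, rfl⟩, h1, h2⟩ := S₂.isBasis_affineOpens.exists_subset_of_mem_open (hU y₂) (U y₂).2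
      exact ⟨W, hW, h1, h2⟩
    haveI : IsAffine (W : Scheme.{u}) := hW
    let j := W.ι ≫ π
    let F := j ≫ f₁
    haveI : IsAffineHom (Red.bc F G).hom := MorphismProperty.pullback_snd (P := @IsAffineHom) G.hom F ‹_›
    haveI : Smooth (Red.bc F G).hom := inferInstanceAs (Smooth (pullback.snd G.hom F))
    haveI : IsAffineHom (Red.bc f₁ G).hom := MorphismProperty.pullback_snd (P := @IsAffineHom) G.hom f₁ ‹_›
    haveI : LocallyOfFiniteType (Red.bc f₁ G).hom := inferInstanceAs (LocallyOfFiniteType (pullback.snd G.hom f₁))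
    haveI : QuasiCompact (Red.bc f₁ G).hom := inferInstance
    obtain ⟨eT⟩ := nonempty_bc_split (H := T) (hsplit y₂) (S₂.homOfLE hWU)
    let eT' : Grp.mk (Red.bc j T) ≅ Grp.mk (Red.DS (W : Scheme.{u}) (Fin (r y₂) → ℤ)) :=
      bcCongr (by simp [j]) T ≪≫ eT
    let a : Red.bc j T ≅ Red.DS (W : Scheme.{u}) (Fin (r y₂) → ℤ) := (Grp.forget _).mapIso eT'
    haveI : IsMonHom a.hom := eT'.hom.hom.isMonHom_hom
    obtain ⟨b, -, hb⟩ := MaxTorusBC.exists_trIso (show j ≫ f₁ = F from rfl) G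
    haveI : IsMonHom b.hom := hb
    haveI : IsMonHom b.symm.hom := inferInstanceAs (IsMonHom b.inv)
    let i' := a.inv ≫ (Over.pullback j).map i ≫ b.inv
    have hi' : Red.IsMaximalTorus i' :=
      isMaximalTorus_iso a b.symm ((Over.pullback j).map i) _ (by simp [i']) (isTorus_DS_scheme _ _)
        (MaxTorusBC.isMaximalTorus_bc i hi j)
    haveI := hi'.1; haveI := hi'.2.1
    have hconnW := isConnected_fibre_bc G hconn F
    obtain ⟨-, -, hcent⟩ := centralizer_self hconnW (cartanIsTorus_bc (cartanIsTorus_of_urz hconn hu) F) i' hi'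
    obtain ⟨V, Λ, hyV, hVc, hVt⟩ := exists_nhd_central_triv hconnW i' ⟨y₂, hyW⟩
    refine ⟨pullback.snd X.hom (π ≫ f₁) ⁻¹ᵁ (W.ι ''ᵁ V), ⟨⟨y₂, hyW⟩, hyV, rfl⟩, ?_⟩
    let O := pullback.snd X.hom (π ≫ f₁) ⁻¹ᵁ (W.ι ''ᵁ V)
    let q : O.toScheme ⟶ (W : Scheme.{u}) :=
      IsOpenImmersion.lift W.ι (O.ι ≫ pullback.snd X.hom (π ≫ f₁)) (by
        rintro _ ⟨o, rfl⟩
        obtain ⟨v, -, hv⟩ := o.2
        exact ⟨v, hv⟩)
    have hq : q ≫ W.ι = O.ι ≫ pullback.snd X.hom (π ≫ f₁) := IsOpenImmersion.lift_fac _ _ _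
    let XW : Over (W : Scheme.{u}) := Over.mk q
    have hXW : Set.range XW.hom ⊆ (V : Set (W : Scheme.{u})) := by
      rintro _ ⟨o, rfl⟩
      obtain ⟨v, hv, hv'⟩ := o.2
      have : W.ι (q o) = W.ι v := by
        rw [← Scheme.Hom.comp_apply, hq, Scheme.Hom.comp_apply]
        exact hv'.symm
      show q o ∈ V
      rwa [W.ι.isOpenEmbedding.injective this]
    let px : (Over.map F).obj XW ⟶ X := Over.homMk (O.ι ≫ pullback.fst X.hom (π ≫ f₁)) (by
      show _ = q ≫ (W.ι ≫ π) ≫ f₁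
      rw [Category.assoc W.ι, reassoc_of% hq, Category.assoc, pullback.condition])
    let gW : XW ⟶ Red.bc F G := toBC F (px ≫ g)
    have hgW : ∀ (X' : Over (W : Scheme.{u})) (x : X' ⟶ XW) (h : X' ⟶ Red.bc F G),
        (x ≫ gW) * h = h * (x ≫ gW) := fun X' x h => by
      obtain ⟨h, rfl⟩ := exists_toBC' F h
      rw [← toBC_naturality, ← MTBridge.toBC_mul, ← MTBridge.toBC_mul, ← Category.assoc, hg]
    obtain ⟨t, ht⟩ := (hcent XW gW).2 fun X' x h => hgW X' x _
    have htriv : Triv Λ t := hVt XW hXW t fun X' x h => by rw [Category.assoc, ht]; exact hgW X' x h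
    obtain ⟨u, hu'⟩ := exists_factor_triv htriv
    -- the central homomorphism
    haveI : AddGroup.FG ((Fin (r y₂) → ℤ) ⧸ Λ) := AddGroup.fg_of_surjective (QuotientAddGroup.mk'_surjective Λ)
    let D := Red.DS (W : Scheme.{u}) ((Fin (r y₂) → ℤ) ⧸ Λ)
    letI gD : GrpObj D := Red.grpObj_bc _ _
    let v : D ⟶ Red.bc F G := Red.DSmap (W : Scheme.{u}) (QuotientAddGroup.mk' Λ) ≫ i'
    let f := V.ι ≫ F
    obtain ⟨e, he, hem⟩ := MaxTorusBC.exists_trIso (show V.ι ≫ F = f from rfl) G
    haveI : IsMonHom e.hom := hem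
    haveI : IsMonHom e.inv := inferInstance
    haveI : IsMonHom v := inferInstanceAs (IsMonHom (_ ≫ i'))
    obtain ⟨w, hw⟩ := huniv _ f (Red.bc V.ι D) ((Over.pullback V.ι).map v ≫ e.inv)
      (isMultTypeFT_bc _ V.ι (MTTorus.isMultTypeFT_DS _ _)) fun X' x h => by
        obtain ⟨h, rfl⟩ : ∃ h', h' ≫ e.inv = h := ⟨h ≫ e.hom, by rw [Category.assoc, e.hom_inv_id, Category.comp_id]⟩
        rw [← Category.assoc, ← MonObj.mul_comp, ← MonObj.mul_comp]
        obtain ⟨x, rfl⟩ := exists_toBC' V.ι x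
        obtain ⟨h, rfl⟩ := exists_toBC' V.ι h
        rw [← toBC_comp, ← MTBridge.toBC_mul, ← MTBridge.toBC_mul]
        simp only [v, ← Category.assoc]
        rw [hVc _ ?_ _ (triv_comp_DSmap x) h]
        rintro _ ⟨o, rfl⟩
        exact (X'.hom o).2
    let qV : O.toScheme ⟶ (V : Scheme.{u}) := IsOpenImmersion.lift V.ι q (by rw [Scheme.Opens.range_ι]; exact hXW)
    have hqV : qV ≫ V.ι = q := IsOpenImmersion.lift_fac _ _ _
    let uV : O.toScheme ⟶ (Red.bc V.ι D).left := pullback.lift u.left qV (by rw [Over.w u]; exact hqV.symm)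
    refine ⟨uV ≫ w.left ≫ pullback.fst Z.hom f, ?_⟩
    have h1 := congrArg (fun m => m.left ≫ pullback.fst G.hom f) hw
    simp only [Over.comp_left, Category.assoc] at h1
    rw [map_left_fst] at h1
    have h2 : e.inv.left ≫ pullback.fst G.hom f = pullback.fst _ V.ι ≫ pullback.fst G.hom F := by
      rw [← tr_id_fst (show V.ι ≫ F = f from rfl) G, ← he, ← Category.assoc, ← Over.comp_left, e.inv_hom_id]
      exact Category.id_comp _
    rw [Category.assoc, Category.assoc, h1, h2, ← Category.assoc (((Over.pullback V.ι).map v).left), map_left_fst,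
      Category.assoc, pullback.lift_fst_assoc]
    show u.left ≫ (Red.DSmap _ _ ≫ i').left ≫ _ = O.ι ≫ pullback.fst X.hom (π ≫ f₁) ≫ g.left
    rw [← Category.assoc, ← Over.comp_left, ← Category.assoc u, hu', ht]
    exact (MTDescent.left_toBC_fst_eq F _).trans (Category.assoc _ _ _)
  haveI := CoverMap.epi_over hp
  obtain ⟨d, hd, -⟩ := CoverMap.existsUnique_fac hp b fun T' x y hxy => by
    rw [← cancel_mono z, Category.assoc, Category.assoc, hb, reassoc_of% hxy]
  exact ⟨d, by rw [← cancel_epi p, ← Category.assoc, hd, hb]⟩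

end Groth.Agent.MTCentre
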