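import Groth.Agent.MTCentre.Local
import Groth.Agent.MTImage.Sigma
import Groth.Agent.MTImage.CartanTransporterMain
import Groth.Agent.TorusLift.Central
import Groth.Agent.S8398
import Groth.Agent.S8439

/-!
# The reductive centre of a group of locally constant reductive rank
-/

set_option autoImplicit false
set_option linter.style.haveILetI false
set_option backward.isDefEq.respectTransparency false
set_option maxHeartbeats 1000000
set_option synthInstance.maxHeartbeats 400000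

universe u

noncomputable section

open CategoryTheory Limits MonoidalCategory CartesianMonoidalCategory MonObj GrpObj AlgebraicGeometry
open scoped CategoryTheory.Obj

namespace Groth.Agent.MTCentre

open Groth.Agent.MTBridge Groth.Agent.HomDiag Groth.Agent.MTQuot Groth.Agent.Chev Groth.Agent.MTImage

variable {S : Scheme.{u}}

/-- A reductive centre, on points. -/
def IsRedCentre {Z G : Over S} [GrpObj Z] [GrpObj G] (z : Z ⟶ G) : Prop :=
  IsMonHom z ∧ Mono z ∧ SGA3x.IsMultTypeFT Z ∧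
    (∀ (X : Over S) (x : X ⟶ Z) (g : X ⟶ G), (x ≫ z) * g = g * (x ≫ z)) ∧
    ∀ (S' : Scheme.{u}) (f : S' ⟶ S) (H : Over S') [GrpObj H] (b : (Over.map f).obj H ⟶ G),
      IsMonHom (toBC f b) → SGA3x.IsMultTypeFT H →
      (∀ (X : Over S') (x : X ⟶ H) (g : X ⟶ Red.bc f G), (x ≫ toBC f b) * g = g * (x ≫ toBC f b)) →
      ∃ y : (Over.map f).obj H ⟶ Z, y ≫ z = b

/-- The group has a reductive centre. -/
def HasRedCentre (G : Over S) [GrpObj G] : Prop :=
  ∃ (Z : Over S) (_ : GrpObj Z) (z : Z ⟶ G), IsRedCentre z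

theorem tr_id_fst {U V : Scheme.{u}} {g : V ⟶ U} {f : U ⟶ S} {ψ : V ⟶ S} (h : g ≫ f = ψ) (G : Over S) :
    (MaxTorusExt.tr h (𝟙 (Red.bc ψ G))).left ≫ pullback.fst _ g ≫ pullback.fst G.hom f = pullback.fst G.hom ψ := by
  obtain ⟨a, ha⟩ := exists_toBC' ψ (𝟙 (Red.bc ψ G))
  have h1 := MTDescent.left_toBC_fst_eq ψ a
  rw [ha] at h1
  rw [← ha, MaxTorusExt.tr_toBC, ← Category.assoc, MTDescent.left_toBC_fst_eq, MTDescent.left_toBC_fst_eq]
  show 𝟙 _ ≫ a.left = _
  rw [Category.id_comp, ← h1]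
  exact Category.id_comp _

theorem hom_ext_bc₂ {U V : Scheme.{u}} {g : V ⟶ U} {f : U ⟶ S} {G : Over S} {X : Over V}
    (x y : X ⟶ Red.bc g (Red.bc f G))
    (h : x.left ≫ pullback.fst _ g ≫ pullback.fst G.hom f = y.left ≫ pullback.fst _ g ≫ pullback.fst G.hom f) :
    x = y := by
  have h2 : x.left ≫ pullback.snd _ g = y.left ≫ pullback.snd _ g := (Over.w x).trans (Over.w y).symm
  refine Over.OverMorphism.ext (pullback.hom_ext (pullback.hom_ext (by simpa using h) ?_) h2)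
  show (x.left ≫ pullback.fst _ g) ≫ (Red.bc f G).hom = (y.left ≫ pullback.fst _ g) ≫ (Red.bc f G).hom
  simp only [Category.assoc, pullback.condition]
  rw [reassoc_of% h2]

/-- **A reductive centre exists locally when there is a split maximal torus.** -/
theorem exists_centre_nhd [IsAffine S] {M : Type} [AddCommGroup M] [AddGroup.FG M] {G : Over S} [GrpObj G]
    [IsAffineHom G.hom] [Smooth G.hom] (hconn : ∀ t : S, _root_.IsConnected (G.hom.base ⁻¹' {t}))
    (i : Red.DS S M ⟶ G) (hi : Red.IsMaximalTorus i) (s : S) :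
    ∃ U : S.Opens, s ∈ U ∧ HasRedCentre (Red.bc U.ι G) := by
  haveI := hi.1
  haveI := hi.2.1
  obtain ⟨U, Λ, hs, hcen, hmin⟩ := exists_min_nhd hconn i s
  haveI : AddGroup.FG (M ⧸ Λ) := AddGroup.fg_of_surjective (QuotientAddGroup.mk'_surjective Λ)
  let Z : Over (U : Scheme.{u}) := Red.bc U.ι (Red.DS S (M ⧸ Λ))
  letI gD : GrpObj (Red.DS S (M ⧸ Λ)) := Red.grpObj_bc _ _
  letI gZ : GrpObj Z := Red.grpObj_bc U.ι _
  let z₀ : Red.DS S (M ⧸ Λ) ⟶ G := Red.DSmap S (QuotientAddGroup.mk' Λ) ≫ i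
  haveI := mono_DSmap_mk (S := S) Λ
  haveI : Mono z₀ := mono_comp _ _
  haveI : PreservesLimitsOfShape WalkingCospan (Over.pullback U.ι) :=
    (Adjunction.rightAdjoint_preservesLimits (Over.mapPullbackAdj U.ι)).preservesLimitsOfShape
  refine ⟨U, hs, Z, gZ, (Over.pullback U.ι).map z₀, inferInstance, inferInstance,
    isMultTypeFT_bc _ U.ι (MTTorus.isMultTypeFT_DS S _), fun X x g => ?_, fun S' f H _ b hb hH hbc => ?_⟩
  · obtain ⟨x, rfl⟩ := exists_toBC' U.ι x
    obtain ⟨g, rfl⟩ := exists_toBC' U.ι g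
    rw [← toBC_comp, ← MTBridge.toBC_mul, ← MTBridge.toBC_mul, ← Category.assoc]
    refine congrArg _ (hcen _ ?_ _ (triv_comp_DSmap x) g)
    rintro _ ⟨r, rfl⟩
    exact (X.hom r).2
  haveI := hb
  obtain ⟨b₁, rfl⟩ := exists_toBC' U.ι b
  let f₀ : S' ⟶ S := f ≫ U.ι
  let re := MaxTorusExt.reIso (show f ≫ U.ι = f₀ from rfl) H
  let b₂ := re.inv ≫ b₁
  obtain ⟨e, he, hem⟩ := MaxTorusBC.exists_trIso (show f ≫ U.ι = f₀ from rfl) G
  haveI : IsMonHom e.hom := hem
  haveI : IsMonHom e.inv := inferInstance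
  have hve : toBC f (toBC U.ι b₁) = toBC f₀ b₂ ≫ e.hom := by
    rw [he, ← MaxTorusExt.tr_naturality, Category.comp_id, MaxTorusExt.tr_toBC, Iso.hom_inv_id_assoc]
  have hv : toBC f₀ b₂ = toBC f (toBC U.ι b₁) ≫ e.inv := by rw [hve, Category.assoc, e.hom_inv_id, Category.comp_id]
  haveI : IsMonHom (toBC f₀ b₂) := by rw [hv]; infer_instance
  have hc₂ : ∀ (X : Over S') (x : X ⟶ H) (g : X ⟶ Red.bc f₀ G),
      (x ≫ toBC f₀ b₂) * g = g * (x ≫ toBC f₀ b₂) := fun X x g => by
    rw [← cancel_mono e.hom, MonObj.mul_comp, MonObj.mul_comp, Category.assoc, ← hve]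
    exact hbc X x _
  haveI : IsAffineHom (Red.bc f₀ G).hom := MorphismProperty.pullback_snd (P := @IsAffineHom) G.hom f₀ ‹_›
  haveI : Smooth (Red.bc f₀ G).hom := inferInstanceAs (Smooth (pullback.snd G.hom f₀))
  have hi' := MaxTorusBC.isMaximalTorus_bc i hi f₀
  haveI := hi'.1
  haveI := hi'.2.1
  obtain ⟨w, hw⟩ := Groth.Agent.S8398.result S' (Red.bc f₀ G) (isConnected_fibre_bc G hconn f₀) _ _ hi' H hH _ hc₂
  haveI : IsMonHom w := MTSplit.isMonHom_of_comp_mono w ((Over.pullback f₀).map i) _ hw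
  obtain ⟨ω, rfl⟩ := exists_toBC' f₀ w
  have hω : ω ≫ i = b₂ := toBC_inj f₀ (by rw [toBC_comp, hw])
  have htriv : Triv Λ ω := triv_of_min i hmin f₀ (by rintro _ ⟨r, rfl⟩; exact (f r).2) H hH ω
    fun X x g => by rw [hw]; exact hc₂ X x g
  obtain ⟨y, hy⟩ := exists_factor_triv htriv
  refine ⟨toBC U.ι (re.hom ≫ y), ?_⟩
  rw [← toBC_comp]
  refine congrArg _ ?_
  rw [Category.assoc, ← Category.assoc y, hy, hω, Iso.hom_inv_id_assoc]

variable {ei : Type u} {U : ei → Scheme.{u}}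

/-- **Reductive centres on the components give a reductive centre on the disjoint union.** -/
theorem hasRedCentre_sigma {G : Over S} [GrpObj G] (e : ∀ i, U i ⟶ S) (h : ∀ i, HasRedCentre (Red.bc (e i) G)) :
    HasRedCentre (Red.bc (Sigma.desc e) G) := by
  choose Zi hZig zi hzi using h
  let G' := Red.bc (Sigma.desc e) G
  have hψ : ∀ i, ∃ ψ : Red.bc (e i) G ≅ Red.bc (Sigma.ι U i) G', IsMonHom ψ.hom := fun i => by
    obtain ⟨ψ, -, hm⟩ := MaxTorusBC.exists_trIso (Sigma.ι_desc e i) G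
    exact ⟨ψ, hm⟩
  choose ψ hψm using hψ
  let A : ei → Scheme.{u} := fun i => (Zi i).left
  let Z : Over (∐ U) := Over.mk (Limits.Sigma.map fun i => (Zi i).hom)
  let z : Z ⟶ G' := Over.homMk
    (Sigma.desc fun i => (zi i).left ≫ (ψ i).hom.left ≫ pullback.fst G'.hom (Sigma.ι U i)) (by
      refine Sigma.hom_ext _ _ fun i => ?_
      show Sigma.ι A i ≫ Sigma.desc _ ≫ G'.hom = Sigma.ι A i ≫ Limits.Sigma.map _
      rw [Sigma.ι_desc_assoc, Limits.Sigma.ι_map, Category.assoc, Category.assoc, pullback.condition,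
        ← reassoc_of% (Over.w (zi i)), ← reassoc_of% (Over.w (ψ i).hom)]
      rfl)
  have sq : ∀ i, IsPullback (Sigma.ι A i) (Zi i).hom Z.hom (Sigma.ι U i) := fun i =>
    HensPair.isPullback_sigmaMap (fun i => (Zi i).hom) i
  let φ : ∀ i, Zi i ≅ Red.bc (Sigma.ι U i) Z := fun i => Over.isoMk (sq i).isoPullback (sq i).isoPullback_hom_snd
  have key : ∀ i, (φ i).hom ≫ (Over.pullback (Sigma.ι U i)).map z = zi i ≫ (ψ i).hom := fun i => by
    apply Over.OverMorphism.ext
    apply pullback.hom_ext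
    · show ((sq i).isoPullback.hom ≫ ((Over.pullback (Sigma.ι U i)).map z).left) ≫ pullback.fst _ _ =
        ((zi i).left ≫ (ψ i).hom.left) ≫ pullback.fst _ _
      simp only [Over.pullback_map_left, Category.assoc, pullback.lift_fst, IsPullback.isoPullback_hom_fst_assoc]
      exact Sigma.ι_desc _ i
    · show ((sq i).isoPullback.hom ≫ ((Over.pullback (Sigma.ι U i)).map z).left) ≫ pullback.snd _ _ =
        ((zi i).left ≫ (ψ i).hom.left) ≫ pullback.snd _ _
      simp only [Over.pullback_map_left, Category.assoc, pullback.lift_snd, IsPullback.isoPullback_hom_snd]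
      exact ((congrArg ((zi i).left ≫ ·) (Over.w (ψ i).hom)).trans (Over.w (zi i))).symm
  have hm : ∀ i, (Over.pullback (Sigma.ι U i)).map z = (φ i).inv ≫ zi i ≫ (ψ i).hom := fun i => by
    rw [← key, Iso.inv_hom_id_assoc]
  have hmono : ∀ i, Mono ((Over.pullback (Sigma.ι U i)).map z) := fun i => by
    haveI := (hzi i).2.1
    rw [hm]
    infer_instance
  haveI : Mono z := ⟨fun a b hab => hom_ext_components a b fun i => MTBridge.toBC_inj (Sigma.ι U i) (by
    haveI := hmono i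
    rw [← cancel_mono ((Over.pullback (Sigma.ι U i)).map z), ← toBC_comp, ← toBC_comp, Category.assoc,
      Category.assoc, hab])⟩
  haveI : Mono z.left := inferInstance
  have hlift : ∀ {X : Over (∐ U)} (g : X ⟶ G'), (∀ i, ∃ y : Red.bc (Sigma.ι U i) X ⟶ Zi i,
      y ≫ zi i ≫ (ψ i).hom = toBC (Sigma.ι U i) (counit i X ≫ g)) → ∃ x, x ≫ z = g := by
    intro X g hg
    have ha : ∀ i, ∃ a : (Over.map (Sigma.ι U i)).obj (Red.bc (Sigma.ι U i) X) ⟶ Z,
        a ≫ z = counit i X ≫ g := fun i => by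
      obtain ⟨y, hy⟩ := hg i
      obtain ⟨a, ha⟩ := exists_toBC' (Sigma.ι U i) (y ≫ (φ i).hom)
      exact ⟨a, MTBridge.toBC_inj (Sigma.ι U i) (by rw [toBC_comp, ha, Category.assoc, key, hy])⟩
    choose a ha using ha
    let 𝒰 := (sigmaOpenCover U).pullback₁ X.hom
    have hcompat : ∀ i j, pullback.fst (𝒰.f i) (𝒰.f j) ≫ (a i).left = pullback.snd _ _ ≫ (a j).left := fun i j => by
      rw [← cancel_mono z.left, Category.assoc, Category.assoc, ← Over.comp_left, ← Over.comp_left, ha, ha]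
      show _ ≫ (𝒰.f i ≫ g.left) = _ ≫ (𝒰.f j ≫ g.left)
      rw [pullback.condition_assoc]
    let r := Scheme.Cover.glueMorphisms 𝒰 (fun i => (a i).left) hcompat
    have hr : ∀ i, 𝒰.f i ≫ r = (a i).left := fun i => Scheme.Cover.ι_glueMorphisms 𝒰 _ hcompat i
    refine ⟨Over.homMk r (Scheme.Cover.hom_ext 𝒰 _ _ fun i => ?_), Over.OverMorphism.ext
      (Scheme.Cover.hom_ext 𝒰 _ _ fun i => ?_)⟩
    · rw [reassoc_of% (hr i)]
      exact Over.w (a i) |>.trans pullback.condition.symm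
    · show 𝒰.f i ≫ r ≫ z.left = _
      rw [reassoc_of% (hr i)]
      exact congrArg (fun w => w.left) (ha i)
  obtain ⟨hZg, hzm⟩ := SubGen.Spread.exists_grpObj_of_div z
    (hlift _ fun i => ⟨1, by
      haveI := (hzi i).1; haveI := hψm i
      rw [MonObj.one_comp, show (η[G'] : 𝟙_ _ ⟶ G') = 1 by
        rw [Hom.one_def, toUnit_unit, Category.id_comp], MonObj.comp_one, MTKernel.toBC_one]⟩)
    (hlift _ fun i => ⟨((toBC (Sigma.ι U i) (counit i _ ≫ fst Z Z) ≫ (φ i).inv)⁻¹ *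
        (toBC (Sigma.ι U i) (counit i _ ≫ snd Z Z) ≫ (φ i).inv)), by
      haveI := (hzi i).1; haveI := hψm i
      rw [MonObj.mul_comp, GrpObj.inv_comp, MonObj.comp_mul, GrpObj.comp_inv, MTBridge.toBC_mul, toBC_inv,
        Category.assoc, Category.assoc, ← hm, ← toBC_comp, ← toBC_comp, Category.assoc, Category.assoc]⟩)
  haveI := hzm
  haveI : ∀ i, IsMonHom (φ i).hom := fun i => by
    haveI := (hzi i).1; haveI := hψm i; haveI := hmono i
    exact MTSplit.isMonHom_of_comp_mono _ _ _ (key i)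
  have hZt : SGA3x.IsMultTypeFT Z := by
    choose S' f hff hfs hfc hfl using fun i => (hzi i).2.2.1
    have eF : ∀ i, Sigma.ι S' i ≫ Limits.Sigma.map f = f i ≫ Sigma.ι U i := Limits.Sigma.ι_map f
    refine ⟨∐ S', Limits.Sigma.map f, ?_, ?_, exists_compact_cover_sigma f hfc, ?_⟩
    · have h' : ∀ i, Flat (f i ≫ Sigma.ι U i) := fun i => by haveI := hff i; infer_instance
      have hd := IsZariskiLocalAtSource.sigmaDesc (P := @Flat) h'
      convert hd using 1
      exact Sigma.hom_ext _ _ fun i => by rw [eF, Sigma.ι_desc]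
    · refine ⟨fun x => ?_⟩
      obtain ⟨i, y, rfl⟩ : ∃ i, ∃ y : U i, Sigma.ι U i y = x := (sigmaOpenCover U).exists_eq x
      obtain ⟨t, rfl⟩ := (hfs i).surj y
      exact ⟨Sigma.ι S' i t, by rw [← Scheme.Hom.comp_apply, eF, Scheme.Hom.comp_apply]⟩
    · intro x
      obtain ⟨i, t, rfl⟩ : ∃ i, ∃ t : S' i, Sigma.ι S' i t = x := (sigmaOpenCover S').exists_eq x
      obtain ⟨V, htV, M, hM, hMfg, hsp⟩ := hfl i t
      refine ⟨Sigma.ι S' i ''ᵁ V, ⟨t, htV, rfl⟩, M, hM, hMfg, ?_⟩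
      obtain ⟨e'⟩ := nonempty_bc_split (H := Zi i) hsp ((Sigma.ι S' i).isoImage V).inv
      have heq : (((Sigma.ι S' i).isoImage V).inv ≫ V.ι ≫ f i) ≫ Sigma.ι U i =
          (Sigma.ι S' i ''ᵁ V).ι ≫ Limits.Sigma.map f := by
        rw [← (Sigma.ι S' i).isoImage_inv_ι V, Category.assoc, Category.assoc, Category.assoc, Category.assoc, eF]
      exact ⟨bcCongr heq.symm Z ≪≫ bcComp (Sigma.ι U i) (((Sigma.ι S' i).isoImage V).inv ≫ V.ι ≫ f i) Z ≪≫
        bcMapIso _ (Grp.mkIso' (φ i)).symm ≪≫ e'⟩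
  refine ⟨Z, hZg, z, hzm, inferInstance, hZt, fun X x g => ?_, fun S' f H _ b hb hH hbc => ?_⟩
  · refine hom_ext_components _ _ fun i => MTBridge.toBC_inj (Sigma.ι U i) ?_
    haveI := (hzi i).1; haveI := hψm i
    rw [MonObj.comp_mul, MonObj.comp_mul, MTBridge.toBC_mul, MTBridge.toBC_mul, ← Category.assoc, toBC_comp, hm,
      ← Category.assoc, ← Category.assoc]
    obtain ⟨g', hg'⟩ : ∃ g', g' ≫ (ψ i).hom = toBC (Sigma.ι U i) (counit i X ≫ g) :=
      ⟨_ ≫ (ψ i).inv, by rw [Category.assoc, Iso.inv_hom_id, Category.comp_id]⟩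
    rw [← hg', ← MonObj.mul_comp, ← MonObj.mul_comp, (hzi i).2.2.2.1]
  haveI := hb
  refine hlift b fun i => ?_
  haveI := hψm i
  let p := pullback.fst f (Sigma.ι U i)
  let q := pullback.snd f (Sigma.ι U i)
  let X := (Over.map f).obj H
  let α : (Over.map q).obj (Red.bc p H) ⟶ Red.bc (Sigma.ι U i) X := Over.homMk
    (pullback.lift (pullback.fst H.hom p) (pullback.snd H.hom p ≫ q) (by
      show pullback.fst H.hom p ≫ H.hom ≫ f = _
      rw [pullback.condition_assoc, Category.assoc, pullback.condition]))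
    (pullback.lift_snd _ _ _)
  let β : Red.bc (Sigma.ι U i) X ⟶ (Over.map q).obj (Red.bc p H) := Over.homMk
    (pullback.lift (pullback.fst X.hom (Sigma.ι U i))
      (pullback.lift (pullback.fst X.hom (Sigma.ι U i) ≫ H.hom) (pullback.snd X.hom (Sigma.ι U i)) (by
        rw [Category.assoc]; exact pullback.condition))
      (pullback.lift_fst _ _ _).symm) (by
    show pullback.lift _ _ _ ≫ pullback.snd H.hom p ≫ q = _
    rw [pullback.lift_snd_assoc, pullback.lift_snd]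
    rfl)
  have hβα : β ≫ α = 𝟙 _ := by
    apply Over.OverMorphism.ext
    apply pullback.hom_ext
    · show (pullback.lift _ _ _ ≫ pullback.lift _ _ _) ≫ pullback.fst _ _ = 𝟙 _ ≫ pullback.fst _ _
      refine ((Category.assoc _ _ _).trans (congrArg (_ ≫ ·) (pullback.lift_fst _ _ _))).trans ?_
      exact (pullback.lift_fst _ _ _).trans (Category.id_comp _).symm
    · show (pullback.lift _ _ _ ≫ pullback.lift _ _ _) ≫ pullback.snd _ _ = 𝟙 _ ≫ pullback.snd _ _
      refine ((Category.assoc _ _ _).trans (congrArg (_ ≫ ·) (pullback.lift_snd _ _ _))).trans ?_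
      refine (pullback.lift_snd_assoc _ _ _ _).trans ?_
      exact (pullback.lift_snd _ _ _).trans (Category.id_comp _).symm
  obtain ⟨e₁, he₁, hem₁⟩ := MaxTorusBC.exists_trIso (show p ≫ f = p ≫ f from rfl) G'
  obtain ⟨e₂, he₂, hem₂⟩ := MaxTorusBC.exists_trIso (show q ≫ Sigma.ι U i = p ≫ f from pullback.condition.symm) G'
  haveI : IsMonHom e₁.hom := hem₁
  haveI : IsMonHom e₂.hom := hem₂
  haveI : IsMonHom e₁.inv := inferInstance
  let c : (Over.map q).obj (Red.bc p H) ⟶ Red.bc (Sigma.ι U i) G' := α ≫ toBC (Sigma.ι U i) (counit i X ≫ b)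
  have hc : toBC q c = (Over.pullback p).map (toBC f b) ≫ e₁.inv ≫ e₂.hom := by
    have h1 : e₁.inv.left ≫ pullback.fst G'.hom (p ≫ f) = pullback.fst _ p ≫ pullback.fst G'.hom f := by
      rw [← tr_id_fst (show p ≫ f = p ≫ f from rfl) G', ← he₁, ← Category.assoc, ← Over.comp_left, e₁.inv_hom_id]
      exact Category.id_comp _
    refine hom_ext_bc₂ _ _ ?_
    rw [← Category.assoc, MTDescent.left_toBC_fst_eq]
    show (α.left ≫ (toBC _ _).left) ≫ _ = (_ ≫ e₁.inv.left ≫ e₂.hom.left) ≫ _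
    rw [Category.assoc, MTDescent.left_toBC_fst_eq, Category.assoc, Category.assoc, he₂, tr_id_fst, h1,
      ← Category.assoc (((Over.pullback p).map (toBC f b)).left), map_left_fst, Category.assoc,
      MTDescent.left_toBC_fst_eq]
    show pullback.lift _ _ _ ≫ pullback.fst _ _ ≫ b.left = _
    rw [pullback.lift_fst_assoc]
  let bi : (Over.map q).obj (Red.bc p H) ⟶ Red.bc (e i) G := c ≫ (ψ i).inv
  have hbi : toBC q bi = toBC q c ≫ (Over.pullback q).map (ψ i).inv := toBC_comp q _ c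
  haveI : IsMonHom (toBC q bi) := by rw [hbi, hc]; infer_instance
  have hbic : ∀ (Y : Over _) (x : Y ⟶ Red.bc p H) (g : Y ⟶ Red.bc q (Red.bc (e i) G)),
      (x ≫ toBC q bi) * g = g * (x ≫ toBC q bi) := fun Y x g => by
    have hT : IsMonHom (e₁.inv ≫ e₂.hom ≫ (Over.pullback q).map (ψ i).inv) := inferInstance
    obtain ⟨g₁, rfl⟩ : ∃ g₁, g₁ ≫ e₁.inv ≫ e₂.hom ≫ (Over.pullback q).map (ψ i).inv = g :=
      ⟨g ≫ (Over.pullback q).map (ψ i).hom ≫ e₂.inv ≫ e₁.hom, by
        simp only [Category.assoc, Iso.hom_inv_id_assoc, Iso.inv_hom_id_assoc, ← Functor.map_comp, Iso.hom_inv_id,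
          CategoryTheory.Functor.map_id, Category.comp_id]⟩
    rw [hbi, hc, Category.assoc, Category.assoc, ← Category.assoc x, ← MonObj.mul_comp, ← MonObj.mul_comp,
      Groth.Agent.S8398.central_bc p _ hbc]
  obtain ⟨y, hy⟩ := (hzi i).2.2.2.2 _ q (Red.bc p H) bi inferInstance (isMultTypeFT_bc H p hH) hbic
  refine ⟨β ≫ y, ?_⟩
  rw [Category.assoc, ← Category.assoc y, hy]
  simp only [bi, c, Category.assoc, Iso.inv_hom_id, Category.comp_id]
  rw [← Category.assoc, hβα, Category.id_comp]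

end Groth.Agent.MTCentre
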