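import Groth.Agent.MTCentre.Local
import Groth.Agent.AlgSpLib.PureMono

/-!
# Central points of a split torus
-/

set_option autoImplicit false
set_option linter.style.haveILetI false
set_option backward.isDefEq.respectTransparency false
set_option maxHeartbeats 1000000
set_option synthInstance.maxHeartbeats 400000

universe u

open CategoryTheory Limits MonoidalCategory CartesianMonoidalCategory MonObj GrpObj AlgebraicGeometry
open scoped CategoryTheory.Obj

noncomputable section

namespace Groth.Agent.MTCentre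

open Groth.Agent.MTBridge Groth.Agent.HomDiag Groth.Agent.MTQuot

variable {S : Scheme.{u}} {M : Type} [AddCommGroup M] {G : Over S} [GrpObj G]

/-- Conjugation of a point by a point of the torus. -/
def conjPt (i : Red.DS S M ⟶ G) {X : Over S} (x : X ⟶ Red.DS S M) (g : X ⟶ G) : X ⟶ G := (x ≫ i) * g * (x ≫ i)⁻¹

theorem conjPt_eq_iff (i : Red.DS S M ⟶ G) {X : Over S} (x : X ⟶ Red.DS S M) (g : X ⟶ G) :
    conjPt i x g = g ↔ (x ≫ i) * g = g * (x ≫ i) :=
  mul_inv_eq_iff_eq_mul

/-- **The weight decomposition of the functions on the group.** -/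
theorem exists_coaction [IsAffine G.left] (i : Red.DS S M ⟶ G) [IsMonHom i] :
    ∃ ρ : Γ(G.left, ⊤) →+* MonoidAlgebra Γ(G.left, ⊤) (Multiplicative M),
      (∀ (X : Over S) (x : X ⟶ Red.DS S M) (g : X ⟶ G), (conjPt i x g).left.appTop.hom = (ev x g).comp ρ) ∧
      (∀ a, (ρ a).coeff.sum (fun _ c => c) = a) ∧
      ∀ a m, ρ ((ρ a).coeff m) = MonoidAlgebra.single m ((ρ a).coeff m) := by
  let A : Type u := Γ(G.left, ⊤)
  let AM : Type u := MonoidAlgebra A (Multiplicative M)
  let pr : Spec (CommRingCat.of AM) ⟶ G.left :=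
    Spec.map (CommRingCat.ofHom (algebraMap A AM)) ≫ G.left.isoSpec.inv
  let X₁ : Over S := Over.mk (pr ≫ G.hom)
  let g₁ : X₁ ⟶ G := Over.homMk pr rfl
  obtain ⟨x₁, hx₁⟩ := exists_ch (S := S) (X := X₁)
    ((Scheme.ΓSpecIso (CommRingCat.of AM)).inv.hom.toMonoidHom.comp (MonoidAlgebra.of A (Multiplicative M)))
  let ρ : A →+* AM := ((conjPt i x₁ g₁).left.appTop ≫ (Scheme.ΓSpecIso (CommRingCat.of AM)).hom).hom
  have h₁ : ∀ (X : Over S) (x : X ⟶ Red.DS S M) (g : X ⟶ G), (conjPt i x g).left.appTop.hom = (ev x g).comp ρ := by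
    intro X x g
    let φ : AM →+* Γ(X.left, ⊤) := ev x g
    let rl : X.left ⟶ Spec (CommRingCat.of AM) := X.left.toSpecΓ ≫ Spec.map (CommRingCat.ofHom φ)
    have hφ : φ.comp (algebraMap A AM) = g.left.appTop.hom := RingHom.ext fun a => by
      show ev x g (MonoidAlgebra.single 1 a) = _
      rw [ev_single, map_one, _root_.mul_one]
    have hpr : rl ≫ pr = g.left := by
      show X.left.toSpecΓ ≫ Spec.map _ ≫ Spec.map _ ≫ G.left.isoSpec.inv = _
      rw [← Spec.map_comp_assoc, ← CommRingCat.ofHom_comp, hφ, CommRingCat.ofHom_hom,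
        ← Scheme.toSpecΓ_naturality_assoc, ← G.left.isoSpec_hom, Iso.hom_inv_id, Category.comp_id]
    let r : X ⟶ X₁ := Over.homMk rl (by
      show rl ≫ pr ≫ G.hom = X.hom
      rw [reassoc_of% hpr, Over.w g])
    have hr₁ : r ≫ g₁ = g := Over.OverMorphism.ext hpr
    have hr₂ : r ≫ x₁ = x := ch_ext fun m => by
      rw [ch_comp, hx₁]
      refine (ConcreteCategory.congr_hom (appTop_toSpecΓ φ) (MonoidAlgebra.single m 1)).trans ?_
      show ev x g (MonoidAlgebra.single m 1) = _
      rw [ev_single, map_one, _root_.one_mul]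
    have e : conjPt i x g = r ≫ conjPt i x₁ g₁ := by
      rw [conjPt, conjPt, MonObj.comp_mul, MonObj.comp_mul, GrpObj.comp_inv, ← Category.assoc, hr₁, hr₂]
    rw [e]
    apply RingHom.ext
    intro a
    show rl.appTop ((conjPt i x₁ g₁).left.appTop a) =
      φ ((Scheme.ΓSpecIso (CommRingCat.of AM)).hom ((conjPt i x₁ g₁).left.appTop a))
    refine Eq.trans ?_ (ConcreteCategory.congr_hom (appTop_toSpecΓ φ) _)
    exact congrArg rl.appTop
      (ConcreteCategory.congr_hom (Scheme.ΓSpecIso (CommRingCat.of AM)).hom_inv_id _).symm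
  refine ⟨ρ, h₁, fun a => ?_, fun a m => ?_⟩
  · have h := h₁ G 1 (𝟙 G)
    have e : conjPt i 1 (𝟙 G) = 𝟙 G := by
      rw [conjPt, MonObj.one_comp, _root_.one_mul, inv_one, _root_.mul_one]
    rw [e] at h
    have hev : ∀ z : AM, ev (1 : G ⟶ Red.DS S M) (𝟙 G) z = z.coeff.sum (fun _ c => c) := fun z => by
      induction z using MonoidAlgebra.induction_linear with
      | zero => simp
      | add p q hp hq =>
        rw [map_add, hp, hq, MonoidAlgebra.coeff_add, Finsupp.sum_add_index' (fun _ => rfl) (fun _ _ _ => rfl)]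
      | single m c =>
        rw [ev_single, ch_one, _root_.mul_one, MonoidAlgebra.coeff_single, Finsupp.sum_single_index rfl]
        exact RingHom.congr_fun (CommRingCat.hom_id (R := Γ(G.left, ⊤))) c |> fun h => by
          simp [Over.id_left, Scheme.Hom.id_appTop]
    have h' := RingHom.congr_fun h a
    rw [RingHom.comp_apply, hev] at h'
    exact h'.symm.trans (by simp [Over.id_left, Scheme.Hom.id_appTop])
  -- coassociativity
  let B : Type u := MonoidAlgebra AM (Multiplicative M)
  let C₁ : A →+* AM := algebraMap A AM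
  let C₂ : AM →+* B := MonoidAlgebra.singleOneRingHom
  let pr₂ : Spec (CommRingCat.of B) ⟶ G.left := Spec.map (CommRingCat.ofHom (C₂.comp C₁)) ≫ G.left.isoSpec.inv
  let X₂ : Over S := Over.mk (pr₂ ≫ G.hom)
  let g : X₂ ⟶ G := Over.homMk pr₂ rfl
  obtain ⟨x, hx⟩ := exists_ch (S := S) (X := X₂)
    ((Scheme.ΓSpecIso (CommRingCat.of B)).inv.hom.toMonoidHom.comp (MonoidAlgebra.of AM (Multiplicative M)))
  obtain ⟨y, hy⟩ := exists_ch (S := S) (X := X₂)
    ((Scheme.ΓSpecIso (CommRingCat.of B)).inv.hom.toMonoidHom.comp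
      (C₂.toMonoidHom.comp (MonoidAlgebra.of A (Multiplicative M))))
  let ι' := (Scheme.ΓSpecIso (CommRingCat.of B)).inv.hom
  have hg : g.left.appTop.hom = ι'.comp (C₂.comp C₁) := by
    show (pr₂).appTop.hom = _
    rw [appTop_specMap_isoSpec_inv]
    rfl
  have hevy : ev y g = ι'.comp C₂ := by
    refine MonoidAlgebra.ringHom_ext (fun c => ?_) (fun n => ?_)
    · rw [ev_single, map_one, _root_.mul_one]
      exact (RingHom.congr_fun hg c).trans rfl
    · rw [ev_single, map_one, _root_.one_mul, hy]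
      rfl
  have hg' : (conjPt i y g).left.appTop.hom = ι'.comp (C₂.comp ρ) := by rw [h₁, hevy]; rfl
  have hevx : ev x (conjPt i y g) = ι'.comp (MonoidAlgebra.mapRingHom (Multiplicative M) ρ) := by
    refine MonoidAlgebra.ringHom_ext (fun c => ?_) (fun n => ?_)
    · rw [ev_single, map_one, _root_.mul_one]
      refine (RingHom.congr_fun hg' c).trans ?_
      show ι' (C₂ (ρ c)) = ι' (MonoidAlgebra.mapRingHom _ ρ (MonoidAlgebra.single 1 c))
      rw [MonoidAlgebra.mapRingHom_single]
      rfl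
    · rw [ev_single, map_one, _root_.one_mul, hx]
      show ι' (MonoidAlgebra.single n 1) = ι' (MonoidAlgebra.mapRingHom _ ρ (MonoidAlgebra.single n 1))
      rw [MonoidAlgebra.mapRingHom_single, map_one]
  let δ : AM →+* B := MonoidAlgebra.liftNCRingHom (C₂.comp C₁)
    ((MonoidAlgebra.of AM (Multiplicative M)) * (C₂.toMonoidHom.comp (MonoidAlgebra.of A (Multiplicative M))))
    fun _ _ => Commute.all _ _
  have hevxy : ev (x * y) g = ι'.comp δ := by
    refine MonoidAlgebra.ringHom_ext (fun c => ?_) (fun n => ?_)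
    · rw [ev_single, map_one, _root_.mul_one]
      refine (RingHom.congr_fun hg c).trans (congrArg ι' ?_)
      refine Eq.trans ?_ (MonoidAlgebra.liftNCRingHom_single _ _ _ _ _).symm
      rw [map_one, _root_.mul_one]
    · rw [ev_single, map_one, _root_.one_mul, ch_mul, hx, hy]
      show ι' _ * ι' _ = ι' (δ _)
      rw [← map_mul]
      refine congrArg ι' (Eq.trans ?_ (MonoidAlgebra.liftNCRingHom_single _ _ _ _ _).symm)
      rw [map_one, _root_.one_mul]
      rfl
  have hassoc : conjPt i (x * y) g = conjPt i x (conjPt i y g) := by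
    simp only [conjPt, MonObj.mul_comp, _root_.mul_inv_rev, _root_.mul_assoc]
  have hkey : δ (ρ a) = MonoidAlgebra.mapRingHom (Multiplicative M) ρ (ρ a) := by
    refine (ConcreteCategory.bijective_of_isIso (Scheme.ΓSpecIso (CommRingCat.of B)).inv).1 ?_
    show ι' _ = ι' _
    have e₁ := RingHom.congr_fun (h₁ X₂ (x * y) g) a
    have e₂ := RingHom.congr_fun (h₁ X₂ x (conjPt i y g)) a
    rw [hevxy, hassoc] at e₁
    rw [hevx] at e₂
    exact e₁.symm.trans e₂
  have hδ : ∀ (z : AM) (n : Multiplicative M), (δ z).coeff n = MonoidAlgebra.single n (z.coeff n) := fun z n => by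
    induction z using MonoidAlgebra.induction_linear with
    | zero => simp
    | add p q hp hq =>
      rw [map_add]
      erw [MonoidAlgebra.coeff_add, Finsupp.add_apply, hp, hq]
      rw [MonoidAlgebra.coeff_add, Finsupp.add_apply, MonoidAlgebra.single_add]
    | single k c =>
      have : δ (MonoidAlgebra.single k c) = MonoidAlgebra.single k (MonoidAlgebra.single k c) := by
        refine (MonoidAlgebra.liftNCRingHom_single _ _ _ _ _).trans ?_
        show MonoidAlgebra.single 1 (MonoidAlgebra.single 1 c) *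
          (MonoidAlgebra.single k 1 * MonoidAlgebra.single 1 (MonoidAlgebra.single k 1)) = _
        rw [MonoidAlgebra.single_mul_single, MonoidAlgebra.single_mul_single]
        simp [MonoidAlgebra.single_mul_single]
      rw [this]
      by_cases hkn : k = n
      · subst hkn; simp
      · simp [MonoidAlgebra.coeff_single, Finsupp.single_eq_of_ne' hkn]
  have h := congrArg (fun z => MonoidAlgebra.coeff z m) hkey
  simp only [hδ, MonoidAlgebra.coeff_mapRingHom] at h
  exact h.symm

theorem isUnit_appTop_of_range_subset {Y Z : Scheme.{u}} (p : Y ⟶ Z) (e : Γ(Z, ⊤))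
    (h : Set.range p ⊆ (Z.basicOpen e : Set Z)) : IsUnit (p.appTop e) := by
  refine RingedSpace.isUnit_of_isUnit_germ Y.toRingedSpace ⊤ _ fun y hy => ?_
  refine (Y.toRingedSpace.mem_basicOpen _ y hy).1 ?_
  show y ∈ Y.basicOpen (p.appTop e)
  rw [← Scheme.preimage_basicOpen_top]
  exact h ⟨y, rfl⟩

theorem appTop_fst_eq_zero [Smooth G.hom] {K : Type u} [Field K] (k : Spec (CommRingCat.of K) ⟶ S)
    (e : Γ(G.left, ⊤)) (h : ∀ q ∈ G.left.basicOpen e, G.hom q ≠ k (IsLocalRing.closedPoint K)) :
    (pullback.fst G.hom k).appTop e = 0 := by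
  haveI : Smooth (pullback.snd G.hom k) := inferInstance
  haveI : IsReduced (pullback G.hom k) := SmoothRed.isReduced_of_smooth_scheme (pullback.snd G.hom k)
  haveI : Subsingleton ↥(Spec (CommRingCat.of K)) := inferInstanceAs (Subsingleton (PrimeSpectrum K))
  rw [← basicOpen_eq_bot_iff, ← Scheme.preimage_basicOpen_top, eq_bot_iff]
  intro z hz
  refine (h _ hz ?_).elim
  rw [← Scheme.Hom.comp_apply, pullback.condition, Scheme.Hom.comp_apply,
    Subsingleton.elim (pullback.snd G.hom k z) (IsLocalRing.closedPoint K)]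

/-- **Central points of a split torus lie in the smallest central subgroup.** -/
theorem exists_nhd_central_triv [IsAffine S] [AddGroup.FG M] [IsAffineHom G.hom] [Smooth G.hom]
    (hconn : ∀ t : S, _root_.IsConnected (G.hom.base ⁻¹' {t})) (i : Red.DS S M ⟶ G) [IsMonHom i] (s : S) :
    ∃ (U : S.Opens) (Λ : AddSubgroup M), s ∈ U ∧
      (∀ (X : Over S), Set.range X.hom ⊆ (U : Set S) → ∀ x : X ⟶ Red.DS S M, Triv Λ x → ∀ g : X ⟶ G,
        (x ≫ i) * g = g * (x ≫ i)) ∧
      ∀ (X : Over S), Set.range X.hom ⊆ (U : Set S) → ∀ x : X ⟶ Red.DS S M,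
        (∀ (X' : Over S) (p : X' ⟶ X) (g : X' ⟶ G), ((p ≫ x) ≫ i) * g = g * ((p ≫ x) ≫ i)) → Triv Λ x := by
  classical
  haveI : IsAffine G.left := isAffine_of_isAffineHom G.hom
  obtain ⟨U, Λ, hsU, hcen, hmin⟩ := exists_min_nhd hconn i s
  obtain ⟨ρ, hρ, hsum, hwt⟩ := exists_coaction i
  let A : Type u := Γ(G.left, ⊤)
  have hft : (G.hom.appTop.hom).FiniteType :=
    (HasRingHomProperty.iff_of_isAffine (P := @LocallyOfFiniteType)).1 inferInstance
  letI : Algebra Γ(S, ⊤) A := G.hom.appTop.hom.toAlgebra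
  obtain ⟨gens, hgens⟩ := (show Algebra.FiniteType Γ(S, ⊤) A from hft).out
  let good : Multiplicative M → Prop := fun m => ∃ a ∈ gens, ∃ q ∈ G.left.basicOpen ((ρ a).coeff m), G.hom q = s
  let P : Finset (Multiplicative M) := (gens.biUnion fun a => (ρ a).coeff.support).filter good
  have hW : ∀ m : Multiplicative M, ∃ W : S.Opens, s ∈ W ∧ (good m → ∀ (Y : Over S) (x : Y ⟶ Red.DS S M),
      Set.range Y.hom ⊆ (W : Set S) → (∀ (X' : Over S) (p : X' ⟶ Y) (g : X' ⟶ G),
        ((p ≫ x) ≫ i) * g = g * ((p ≫ x) ≫ i)) → ch x m = 1) := fun m => by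
    by_cases hm : good m
    swap
    · exact ⟨⊤, trivial, fun h => (hm h).elim⟩
    obtain ⟨a, ha, q, hq, hqs⟩ := hm
    let e := (ρ a).coeff m
    let V := G.left.basicOpen e
    refine ⟨⟨G.hom '' (V : Set G.left), G.hom.isOpenMap _ V.2⟩, ⟨q, hq, hqs⟩, fun _ Y x hY hx => ?_⟩
    let X' : Over S := Over.mk (pullback.fst Y.hom (V.ι ≫ G.hom) ≫ Y.hom)
    let p : X' ⟶ Y := Over.homMk (pullback.fst Y.hom (V.ι ≫ G.hom)) rfl
    let g : X' ⟶ G := Over.homMk (pullback.snd Y.hom (V.ι ≫ G.hom) ≫ V.ι) (by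
      show _ = pullback.fst Y.hom (V.ι ≫ G.hom) ≫ Y.hom
      rw [pullback.condition, Category.assoc])
    haveI : Surjective (pullback.fst Y.hom (V.ι ≫ G.hom)) := ⟨Set.range_eq_univ.1 (by
      rw [Scheme.Pullback.range_fst]
      refine Set.eq_univ_of_forall fun y => ?_
      obtain ⟨q', hq', hq''⟩ := hY ⟨y, rfl⟩
      exact ⟨⟨q', hq'⟩, hq''⟩)⟩
    haveI : Flat (V.ι ≫ G.hom) := inferInstance
    have hinj := AlgSpLib.appTop_injective_of_flat_surjective (pullback.fst Y.hom (V.ι ≫ G.hom))
    apply hinj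
    rw [map_one]
    have hc := hρ X' (p ≫ x) g
    rw [(conjPt_eq_iff i _ _).2 (hx X' p g)] at hc
    have he := RingHom.congr_fun hc e
    rw [RingHom.comp_apply, hwt, ev_single, ch_comp] at he
    have hu : IsUnit (g.left.appTop e) := isUnit_appTop_of_range_subset g.left e (by
      rintro _ ⟨z, rfl⟩
      exact (pullback.snd Y.hom (V.ι ≫ G.hom) z).2)
    exact (hu.mul_left_cancel ((_root_.mul_one _).trans he)).symm
  choose W hsW hW using hW
  let L : AddSubgroup M := AddSubgroup.closure {m | Multiplicative.ofAdd m ∈ P}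
  let k₀ : Spec (CommRingCat.of (S.residueField s)) ⟶ S := S.fromSpecResidueField s
  have hk₀ : k₀ (IsLocalRing.closedPoint (S.residueField s)) = s := Scheme.fromSpecResidueField_apply ..
  have hle : Λ ≤ L := hmin _ k₀ (by rw [hk₀]; exact hsU) L fun X a ha x hx g => by
    rw [← conjPt_eq_iff]
    apply Over.OverMorphism.ext
    refine ext_of_isAffine (CommRingCat.hom_ext ?_)
    rw [hρ]
    have hsub : ∀ z : A, z ∈ Algebra.adjoin Γ(S, ⊤) (gens : Set A) → (ev x g).comp ρ z = g.left.appTop z :=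
      fun z hz => by
      refine Algebra.adjoin_induction (fun b hb => ?_) (fun r => ?_) (fun p q _ _ hp hq => ?_)
        (fun p q _ _ hp hq => ?_) hz
      · rw [RingHom.comp_apply]
        conv_rhs => rw [← hsum b]
        conv_lhs => rw [← MonoidAlgebra.sum_coeff_single (ρ b)]
        rw [map_finsuppSum, map_finsuppSum]
        refine Finsupp.sum_congr fun m hm => ?_
        rw [ev_single]
        by_cases hmg : good m
        · have hmP : m ∈ P := Finset.mem_filter.2 ⟨Finset.mem_biUnion.2 ⟨b, hb, hm⟩, hmg⟩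
          rw [show ch x m = 1 from hx m.toAdd (AddSubgroup.subset_closure hmP), _root_.mul_one]
        · have h0 : g.left.appTop ((ρ b).coeff m) = 0 := by
            have hl : pullback.lift g.left a (by rw [Over.w g, ha]) ≫ pullback.fst G.hom k₀ = g.left :=
              pullback.lift_fst _ _ _
            rw [← hl, Scheme.Hom.comp_appTop]
            show _root_.id ((pullback.lift g.left a _).appTop ((pullback.fst G.hom k₀).appTop ((ρ b).coeff m))) = 0
            rw [appTop_fst_eq_zero k₀ _ fun q hq hqk => hmg ⟨b, hb, q, hq, hqk.trans hk₀⟩, map_zero]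
            rfl
          rw [h0, zero_mul]
      · have e₁ : G.hom.appTop ≫ (conjPt i x g).left.appTop = X.hom.appTop := by
          rw [← Scheme.Hom.comp_appTop, Over.w]
        have e₂ : G.hom.appTop ≫ g.left.appTop = X.hom.appTop := by rw [← Scheme.Hom.comp_appTop, Over.w]
        rw [← hρ]
        exact (ConcreteCategory.congr_hom e₁ r).trans (ConcreteCategory.congr_hom e₂ r).symm
      · simp only [map_add, hp, hq]
      · simp only [map_mul, hp, hq]
    exact RingHom.ext fun z => hsub z (hgens ▸ Algebra.mem_top)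
  refine ⟨U ⊓ P.inf W, Λ, ⟨hsU, Finset.inf_induction (p := fun V : S.Opens => s ∈ V) trivial
    (fun _ h₁ _ h₂ => ⟨h₁, h₂⟩) fun m _ => hsW m⟩, fun X hX => hcen X fun z hz => (hX hz).1, fun X hX x hx => ?_⟩
  intro m hm
  have hsubset : L ≤ (MonoidHom.toAdditiveRight (ch x)).ker := (AddSubgroup.closure_le _).2 fun n hn => by
    have hnP : Multiplicative.ofAdd n ∈ P := hn
    show MonoidHom.toAdditiveRight (ch x) n = 0
    exact congrArg Additive.ofMul (hW _ (Finset.mem_filter.1 hnP).2 X x
      (fun z hz => (Finset.inf_le hnP : P.inf W ≤ _) (hX hz).2) hx)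
  exact congrArg Additive.toMul (hsubset (hle hm))

end Groth.Agent.MTCentre
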