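import Groth.Agent.MTQuot.Core

/-!
# Central subgroups of a split torus, on points
-/

set_option autoImplicit false
set_option linter.style.haveILetI false
set_option backward.isDefEq.respectTransparency false
set_option maxHeartbeats 1000000
set_option synthInstance.maxHeartbeats 400000

universe u

open CategoryTheory Limits MonoidalCategory CartesianMonoidalCategory MonObj AlgebraicGeometry
open scoped CategoryTheory.Obj

noncomputable section

namespace Groth.Agent.MTCentre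

open Groth.Agent.MTBridge Groth.Agent.HomDiag

variable {S : Scheme.{u}} {M : Type} [AddCommGroup M]

/-- A point of a diagonalisable group on which the characters in `Λ` are trivial. -/
def Triv (Λ : AddSubgroup M) {X : Over S} (x : X ⟶ Red.DS S M) : Prop :=
  ∀ m ∈ Λ, ch x (Multiplicative.ofAdd m) = 1

/-- The subgroup cut out by `Λ` is central over `k`. -/
def CentralAt {G : Over S} [GrpObj G] (i : Red.DS S M ⟶ G) (Λ : AddSubgroup M) {T : Scheme.{u}} (k : T ⟶ S) : Prop :=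
  ∀ (X : Over S) (a : X.left ⟶ T), a ≫ k = X.hom → ∀ x : X ⟶ Red.DS S M, Triv Λ x → ∀ g : X ⟶ G,
    (x ≫ i) * g = g * (x ≫ i)

theorem exists_factor_triv {Λ : AddSubgroup M} {X : Over S} {x : X ⟶ Red.DS S M} (h : Triv Λ x) :
    ∃ y : X ⟶ Red.DS S (M ⧸ Λ), y ≫ Red.DSmap S (QuotientAddGroup.mk' Λ) = x := by
  have hle : Λ ≤ (MonoidHom.toAdditiveRight (ch x)).ker := fun m hm => by
    rw [AddMonoidHom.mem_ker]
    exact congrArg Additive.ofMul (h m hm)
  obtain ⟨y, hy⟩ := exists_ch (S := S) (X := X)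
    (AddMonoidHom.toMultiplicativeLeft (QuotientAddGroup.lift Λ (MonoidHom.toAdditiveRight (ch x)) hle))
  refine ⟨y, ch_ext fun m => ?_⟩
  rw [ch_DSmap, hy]
  rfl

theorem triv_comp_DSmap {Λ : AddSubgroup M} {X : Over S} (y : X ⟶ Red.DS S (M ⧸ Λ)) :
    Triv Λ (y ≫ Red.DSmap S (QuotientAddGroup.mk' Λ)) := fun m hm => by
  rw [ch_DSmap]
  show ch y (Multiplicative.ofAdd ((m : M) : M ⧸ Λ)) = 1
  rw [(QuotientAddGroup.eq_zero_iff m).2 hm, ofAdd_zero, map_one]

theorem triv_comp {Λ : AddSubgroup M} {X Y : Over S} (a : Y ⟶ X) {x : X ⟶ Red.DS S M} (h : Triv Λ x) :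
    Triv Λ (a ≫ x) := fun m hm => by rw [ch_comp, h m hm, map_one]

theorem mono_DSmap_mk (Λ : AddSubgroup M) : Mono (Red.DSmap S (QuotientAddGroup.mk' Λ)) := ⟨fun y z h => by
  refine ch_ext fun m => ?_
  obtain ⟨n, hn⟩ := QuotientAddGroup.mk'_surjective Λ m.toAdd
  have e := congrArg (fun w => ch w (Multiplicative.ofAdd n)) h
  simp only [ch_DSmap, toAdd_ofAdd, hn] at e
  exact e⟩

variable {G : Over S} [GrpObj G] {i : Red.DS S M ⟶ G}

theorem centralAt_top [IsMonHom i] {T : Scheme.{u}} (k : T ⟶ S) : CentralAt i ⊤ k := fun X _ _ x hx g => by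
  rw [show x = 1 from ch_ext fun m => by rw [ch_one]; exact hx m.toAdd trivial, MonObj.one_comp, _root_.one_mul,
    _root_.mul_one]

theorem CentralAt.mono {Λ Λ' : AddSubgroup M} {T : Scheme.{u}} {k : T ⟶ S} (h : CentralAt i Λ k) (hle : Λ ≤ Λ') :
    CentralAt i Λ' k := fun X a ha x hx => h X a ha x fun m hm => hx m (hle hm)

theorem CentralAt.comp {Λ : AddSubgroup M} {T T' : Scheme.{u}} {k : T ⟶ S} (h : CentralAt i Λ k) (b : T' ⟶ T) :
    CentralAt i Λ (b ≫ k) := fun X a ha => h X (a ≫ b) (by rw [Category.assoc, ha])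

/-- Central subgroups of a split torus are closed under products. -/
theorem CentralAt.inter [AddGroup.FG M] [IsMonHom i] {Λ₁ Λ₂ : AddSubgroup M} {T : Scheme.{u}} {k : T ⟶ S}
    (h₁ : CentralAt i Λ₁ k) (h₂ : CentralAt i Λ₂ k) : CentralAt i (Λ₁ ⊓ Λ₂) k := by
  intro X a ha x hx g
  obtain ⟨y, hy⟩ := exists_factor_triv hx
  haveI : AddGroup.FG (M ⧸ Λ₁) := AddGroup.fg_of_surjective (QuotientAddGroup.mk'_surjective Λ₁)
  haveI : AddGroup.FG (M ⧸ Λ₂) := AddGroup.fg_of_surjective (QuotientAddGroup.mk'_surjective Λ₂)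
  haveI : AddGroup.FG (M ⧸ (Λ₁ ⊓ Λ₂)) := AddGroup.fg_of_surjective (QuotientAddGroup.mk'_surjective _)
  let θ : M ⧸ (Λ₁ ⊓ Λ₂) →+ (M ⧸ Λ₁) × (M ⧸ Λ₂) :=
    QuotientAddGroup.lift _ ((QuotientAddGroup.mk' Λ₁).prod (QuotientAddGroup.mk' Λ₂)) fun m hm =>
      Prod.ext ((QuotientAddGroup.eq_zero_iff m).2 hm.1) ((QuotientAddGroup.eq_zero_iff m).2 hm.2)
  have hθ : Function.Injective θ := by
    rw [injective_iff_map_eq_zero]
    intro c hc
    obtain ⟨m, rfl⟩ := QuotientAddGroup.mk'_surjective _ c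
    exact (QuotientAddGroup.eq_zero_iff m).2 ⟨(QuotientAddGroup.eq_zero_iff m).1 (congrArg Prod.fst hc),
      (QuotientAddGroup.eq_zero_iff m).1 (congrArg Prod.snd hc)⟩
  let q := Red.DSmap S θ
  let X' : Over S := Over.mk (pullback.fst y.left q.left ≫ X.hom)
  let p : X' ⟶ X := Over.homMk (pullback.fst y.left q.left) rfl
  let z : X' ⟶ Red.DS S ((M ⧸ Λ₁) × (M ⧸ Λ₂)) := Over.homMk (pullback.snd y.left q.left) (by
    show _ ≫ _ = pullback.fst y.left q.left ≫ X.hom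
    rw [← Over.w q, ← pullback.condition_assoc, Over.w y])
  have hpz : p ≫ y = z ≫ q := Over.OverMorphism.ext pullback.condition
  have hp : CoverMap.Covers p.left := (MTQuot.covers_DSmap θ hθ).of_isPullback (IsPullback.of_hasPullback y.left q.left)
  haveI := CoverMap.epi_over hp
  let x₁ := z ≫ Red.DSmap S ((AddMonoidHom.inl _ (M ⧸ Λ₂)).comp (QuotientAddGroup.mk' Λ₁))
  let x₂ := z ≫ Red.DSmap S ((AddMonoidHom.inr (M ⧸ Λ₁) _).comp (QuotientAddGroup.mk' Λ₂))
  have e : p ≫ x = x₁ * x₂ := ch_ext fun m => by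
    rw [← hy, ← Category.assoc, ch_DSmap, hpz, ch_mul, ch_DSmap, ch_DSmap, ch_DSmap, ← map_mul]
    refine congrArg (ch z) ?_
    show Multiplicative.ofAdd (θ (QuotientAddGroup.mk' _ m.toAdd)) = Multiplicative.ofAdd (_ + _)
    simp [θ]
  have t₁ : Triv Λ₁ x₁ := fun m hm => by
    rw [ch_DSmap]
    simp [(QuotientAddGroup.eq_zero_iff m).2 hm, ← Prod.zero_eq_mk]
  have t₂ : Triv Λ₂ x₂ := fun m hm => by
    rw [ch_DSmap]
    simp [(QuotientAddGroup.eq_zero_iff m).2 hm, ← Prod.zero_eq_mk]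
  have hX' : (p.left ≫ a) ≫ k = X'.hom := by rw [Category.assoc, ha]; exact Over.w p
  rw [← cancel_epi p, MonObj.comp_mul, MonObj.comp_mul, ← Category.assoc, e, MonObj.mul_comp]
  exact Commute.mul_left (h₁ X' _ hX' x₁ t₁ (p ≫ g)) (h₂ X' _ hX' x₂ t₂ (p ≫ g))

end Groth.Agent.MTCentre
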