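import Groth.Agent.MTCentre.Weights
import Groth.Agent.MTTorus.CommFactor
import Groth.Agent.MTDescent.SubgroupDescent
import Groth.Agent.S5295

/-!
# The smallest central subgroup of a split torus near a point
-/

set_option autoImplicit false
set_option linter.style.haveILetI false
set_option backward.isDefEq.respectTransparency false
set_option maxHeartbeats 1000000
set_option synthInstance.maxHeartbeats 400000

universe u

open CategoryTheory Limits MonoidalCategory CartesianMonoidalCategory MonObj AlgebraicGeometry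
open scoped CategoryTheory.Obj

noncomputable section

namespace Groth.Agent.MTCentre

open Groth.Agent.MTBridge Groth.Agent.HomDiag Groth.Agent.MTQuot

variable {S : Scheme.{u}} {M : Type} [AddCommGroup M] [AddGroup.FG M] {G : Over S} [GrpObj G]

/-- Near every point there is a smallest central subgroup of a split torus. -/
theorem exists_min_nhd [IsAffine S] [IsAffineHom G.hom] [Smooth G.hom]
    (hconn : ∀ t : S, _root_.IsConnected (G.hom.base ⁻¹' {t})) (i : Red.DS S M ⟶ G) [IsMonHom i] (s : S) :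
    ∃ (U : S.Opens) (Λ : AddSubgroup M), s ∈ U ∧
      (∀ (X : Over S), Set.range X.hom ⊆ (U : Set S) → ∀ x : X ⟶ Red.DS S M, Triv Λ x → ∀ g : X ⟶ G,
        (x ≫ i) * g = g * (x ≫ i)) ∧
      ∀ (K : Type u) [Field K] (k : Spec (CommRingCat.of K) ⟶ S), k (IsLocalRing.closedPoint K) ∈ U →
        ∀ Λ' : AddSubgroup M, CentralAt i Λ' k → Λ ≤ Λ' := by
  classical
  obtain ⟨D, E, hE, hD⟩ := exists_weights_points i
  let κ : Type u := S.residueField s
  let k₀ : Spec (CommRingCat.of κ) ⟶ S := S.fromSpecResidueField s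
  have hk₀ : k₀ (IsLocalRing.closedPoint κ) = s := Scheme.fromSpecResidueField_apply ..
  let cl : Finset M → AddSubgroup M := fun Q => AddSubgroup.closure (Q : Set M)
  let P := D.powerset.filter fun Q => CentralAt i (cl Q) k₀
  let Λ : AddSubgroup M := P.inf cl
  have hΛ : CentralAt i Λ k₀ :=
    Finset.inf_induction (p := fun L : AddSubgroup M => CentralAt i L k₀) (centralAt_top k₀)
      (fun _ h₁ _ h₂ => h₁.inter h₂) fun Q hQ => (Finset.mem_filter.1 hQ).2
  have hW : ∀ Q : Finset M, ∃ W : S.Opens, s ∈ W ∧ (¬ CentralAt i (cl Q) k₀ →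
      ∀ (K : Type u) [Field K] (k : Spec (CommRingCat.of K) ⟶ S), k (IsLocalRing.closedPoint K) ∈ W →
        ¬ CentralAt i (cl Q) k) := fun Q => by
    by_cases h : CentralAt i (cl Q) k₀
    · exact ⟨⊤, trivial, fun h' => (h' h).elim⟩
    have h' := h
    rw [hE] at h'
    push_neg at h'
    obtain ⟨e, he, q, hq, hqs⟩ := h'
    refine ⟨⟨G.hom '' (G.left.basicOpen e : Set G.left), G.hom.isOpenMap _ (G.left.basicOpen e).2⟩,
      ⟨q, hq, hqs.trans hk₀⟩, fun _ K _ k hk hc => ?_⟩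
    obtain ⟨q', hq', hq'k⟩ := hk
    exact (hE K k (cl Q)).1 hc e he q' hq' hq'k
  choose W hsW hW using hW
  have hconn' : ∀ t : S, ConnectedSpace ↥(pullback G.hom (S.fromSpecResidueField t)) := fun t => by
    haveI : ConnectedSpace ↥(G.hom.base ⁻¹' {t}) := isConnected_iff_connectedSpace.1 (hconn t)
    exact (G.hom.fiberHomeo t).symm.surjective.connectedSpace (G.hom.fiberHomeo t).symm.continuous
  let H := Red.DS S (M ⧸ Λ)
  haveI : AddGroup.FG (M ⧸ Λ) := AddGroup.fg_of_surjective (QuotientAddGroup.mk'_surjective Λ)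
  let v : H ⟶ G := Red.DSmap S (QuotientAddGroup.mk' Λ) ≫ i
  obtain ⟨U₁, hsU₁, hU₁⟩ := Groth.Agent.S5295.result H G (MTTorus.isMultTypeFT_DS S _) hconn' v s (fun X g h => by
    obtain ⟨g₁, rfl⟩ := exists_toBC' (S.fromSpecResidueField s) g
    obtain ⟨h₁, rfl⟩ := exists_toBC' (S.fromSpecResidueField s) h
    rw [← toBC_comp, ← MTBridge.toBC_mul, ← MTBridge.toBC_mul, ← Category.assoc]
    exact congrArg _ (hΛ _ X.hom rfl _ (triv_comp_DSmap h₁) g₁).symm)
  refine ⟨U₁ ⊓ D.powerset.inf W, Λ, ⟨hsU₁, Finset.inf_induction (p := fun V : S.Opens => s ∈ V) trivial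
    (fun _ h₁ _ h₂ => ⟨h₁, h₂⟩) fun Q _ => hsW Q⟩, fun X hX x hx g => ?_, fun K _ k hk Λ' hc => ?_⟩
  · obtain ⟨y, rfl⟩ := exists_factor_triv hx
    have hr : Set.range X.hom ⊆ Set.range U₁.ι := by
      rw [Scheme.Opens.range_ι]
      exact fun z hz => (hX hz).1
    have := hU₁ X (Over.homMk (IsOpenImmersion.lift U₁.ι X.hom hr) (IsOpenImmersion.lift_fac _ _ _)) g y
    rw [Category.assoc]
    exact this.symm
  · let Q := D.filter fun m => m ∈ Λ'
    have hQ : Q ∈ D.powerset := Finset.mem_powerset.2 (Finset.filter_subset _ _)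
    have hcl : cl Q = AddSubgroup.closure ((Λ' : Set M) ∩ D) := by
      show AddSubgroup.closure _ = _
      congr 1
      ext m
      simp [Q, and_comm]
    have hQk : CentralAt i (cl Q) k := hcl ▸ hD K k Λ' hc
    have hle : D.powerset.inf W ≤ W Q := Finset.inf_le hQ
    have hQs : CentralAt i (cl Q) k₀ := by
      by_contra h
      exact hW Q h K k (hle hk.2) hQk
    refine (Finset.inf_le (Finset.mem_filter.2 ⟨hQ, hQs⟩)).trans ?_
    rw [hcl]
    exact (AddSubgroup.closure_le _).2 Set.inter_subset_left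

omit [AddGroup.FG M] in
theorem map_mul_comp {S' : Scheme.{u}} (f : S' ⟶ S) {H : Over S'} [GrpObj H] (ω : (Over.map f).obj H ⟶ G)
    [IsMonHom (toBC f ω)] {X : Over S'} (c d : X ⟶ H) :
    (Over.map f).map (c * d) ≫ ω = ((Over.map f).map c ≫ ω) * ((Over.map f).map d ≫ ω) :=
  toBC_inj f (by rw [toBC_naturality, MTBridge.toBC_mul, toBC_naturality, toBC_naturality, MonObj.mul_comp])

/-- The identification of iterated composites. -/
def mapIso {U S' : Scheme.{u}} (j₁ : U ⟶ S') (f : S' ⟶ S) (X : Over U) :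
    (Over.map (j₁ ≫ f)).obj X ≅ (Over.map f).obj ((Over.map j₁).obj X) :=
  Over.isoMk (Iso.refl _) (by simp)

omit [AddGroup.FG M] in
/-- A homomorphism out of a split chart. -/
theorem exists_chart_hom {S' U : Scheme.{u}} (j₁ : U ⟶ S') (f : S' ⟶ S) {H : Over S'} [GrpObj H] {D' P : Over U} [GrpObj D'] [GrpObj P]
    (e : Grp.mk (Red.bc j₁ H) ≅ Grp.mk P) (ω : (Over.map f).obj H ⟶ G) [IsMonHom (toBC f ω)]
    (b : Red.bc (j₁ ≫ f) G ⟶ D') [IsMonHom b] :
    ∃ w : P ⟶ D', IsMonHom w ∧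
      (∀ (X : Over U) (c : (Over.map j₁).obj X ⟶ H), ∃ x : X ⟶ P, x ≫ w =
        toBC (j₁ ≫ f) ((mapIso j₁ f X).hom ≫ (Over.map f).map c ≫ ω) ≫ b) ∧
      ∀ (X : Over U) (x : X ⟶ P), ∃ c : (Over.map j₁).obj X ⟶ H, x ≫ w =
        toBC (j₁ ≫ f) ((mapIso j₁ f X).hom ≫ (Over.map f).map c ≫ ω) ≫ b := by
  haveI : IsMonHom e.inv.hom.hom := e.inv.hom.isMonHom_hom
  haveI : IsMonHom e.hom.hom.hom := e.hom.hom.isMonHom_hom
  obtain ⟨a₁, ha₁⟩ := exists_toBC' j₁ e.inv.hom.hom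
  let Φ : ∀ {X : Over U}, ((Over.map j₁).obj X ⟶ H) → (X ⟶ Red.bc (j₁ ≫ f) (G)) :=
    fun {X} c => toBC (j₁ ≫ f) ((mapIso j₁ f X).hom ≫ (Over.map f).map c ≫ ω)
  let w : P ⟶ D' := Φ a₁ ≫ b
  have hw : ∀ {X : Over U} (x : X ⟶ P),
      x ≫ w = Φ ((Over.map j₁).map x ≫ a₁) ≫ b := fun {X} x => by
    show x ≫ toBC (j₁ ≫ f) _ ≫ _ = toBC (j₁ ≫ f) _ ≫ _
    rw [← Category.assoc, ← toBC_naturality]
    congr 2
  refine ⟨w, isMonHom_of_map_mul' w fun {X} x y => ?_, fun X c => ?_, fun X x => ⟨_, hw x⟩⟩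
  · have h : (Over.map j₁).map (x * y) ≫ a₁ = ((Over.map j₁).map x ≫ a₁) * ((Over.map j₁).map y ≫ a₁) :=
      toBC_inj j₁ (by
        rw [toBC_naturality, MTBridge.toBC_mul, toBC_naturality, toBC_naturality, ha₁, MonObj.mul_comp])
    rw [hw, hw, hw, h]
    show toBC _ (_ ≫ (Over.map f).map (_ * _) ≫ ω) ≫ _ = _
    rw [map_mul_comp, MonObj.comp_mul, MTBridge.toBC_mul, MonObj.mul_comp]
  · refine ⟨toBC j₁ c ≫ e.hom.hom.hom, (hw _).trans ?_⟩
    congr 2
    refine toBC_inj j₁ ?_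
    rw [toBC_naturality, ha₁, Category.assoc, ← Grp.comp_hom_hom, Iso.hom_inv_id]
    exact Category.comp_id _

/-- The kernel of the character map of a central homomorphism is central. -/
theorem centralAt_ker {U : Scheme.{u}} (j : U ⟶ S) (i : Red.DS S M ⟶ G) {P : Type} [AddCommGroup P] [AddGroup.FG P]
    (w : Red.DS U P ⟶ Red.DS U M) (θ : M →+ P) (z : U)
    (hθ : ∀ (X : Over U), Set.range X.hom ⊆ {z} → ∀ x : X ⟶ Red.DS U P, x ≫ w = x ≫ Red.DSmap U θ)
    (hc : ∀ (X : Over U) (x : X ⟶ Red.DS U P) (a : (Over.map j).obj X ⟶ Red.DS S M),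
      toBC j a ≫ (bcDS j M).hom.hom.hom = x ≫ w → ∀ g : (Over.map j).obj X ⟶ G, (a ≫ i) * g = g * (a ≫ i)) :
    CentralAt i θ.ker (U.fromSpecResidueField z ≫ j) := by
  intro X a₀ ha₀ x hx g
  let Z : Over U := Over.mk (a₀ ≫ U.fromSpecResidueField z)
  let η' : (Over.map j).obj Z ≅ X := Over.isoMk (Iso.refl _) (by simpa [Z, Category.assoc] using ha₀.symm)
  let x' : Z ⟶ Red.DS U M := toBC j (η'.hom ≫ x) ≫ (bcDS j M).hom.hom.hom
  obtain ⟨y, hy⟩ := exists_factor_triv (Λ := θ.ker) (x := x') fun m hm => by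
    rw [ch_toBC_bcDS, ch_comp, hx m hm, map_one]
  haveI : AddGroup.FG (M ⧸ θ.ker) := AddGroup.fg_of_surjective (QuotientAddGroup.mk'_surjective _)
  let q := Red.DSmap U (QuotientAddGroup.kerLift θ)
  let Z' : Over U := Over.mk (pullback.fst y.left q.left ≫ Z.hom)
  let p : Z' ⟶ Z := Over.homMk (pullback.fst y.left q.left) rfl
  let h : Z' ⟶ Red.DS U P := Over.homMk (pullback.snd y.left q.left) (by
    show _ ≫ _ = pullback.fst y.left q.left ≫ Z.hom
    rw [← Over.w q, ← pullback.condition_assoc, Over.w y])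
  have hp : CoverMap.Covers p.left :=
    (covers_DSmap _ (QuotientAddGroup.kerLift_injective θ)).of_isPullback (IsPullback.of_hasPullback y.left q.left)
  haveI : Epi ((Over.map j).map p) := CoverMap.epi_over hp
  have hpy : p ≫ y = h ≫ q := Over.OverMorphism.ext pullback.condition
  have hZ' : Set.range Z'.hom ⊆ {z} := by
    rintro _ ⟨r, rfl⟩
    show (pullback.fst y.left q.left ≫ a₀ ≫ U.fromSpecResidueField z) r = z
    rw [Scheme.Hom.comp_apply, Scheme.Hom.comp_apply, Scheme.fromSpecResidueField_apply]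
  have hhθ : toBC j ((Over.map j).map p ≫ η'.hom ≫ x) ≫ (bcDS j M).hom.hom.hom = h ≫ w := by
    rw [toBC_naturality, Category.assoc, hθ Z' hZ' h]
    show p ≫ x' = _
    rw [← hy, reassoc_of% hpy, DSmap_comp]
    rfl
  have := hc Z' h _ hhθ ((Over.map j).map p ≫ η'.hom ≫ g)
  rw [Category.assoc, ← MonObj.comp_mul, ← MonObj.comp_mul, cancel_epi, Category.assoc, ← MonObj.comp_mul,
    ← MonObj.comp_mul, cancel_epi] at this
  exact this

/-- **Central homomorphisms land in the smallest central subgroup.** -/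
theorem triv_of_min (i : Red.DS S M ⟶ G) [IsMonHom i] {U : S.Opens} {Λ : AddSubgroup M}
    (hmin : ∀ (K : Type u) [Field K] (k : Spec (CommRingCat.of K) ⟶ S), k (IsLocalRing.closedPoint K) ∈ U →
      ∀ Λ' : AddSubgroup M, CentralAt i Λ' k → Λ ≤ Λ')
    {S' : Scheme.{u}} (f : S' ⟶ S) (hf : Set.range f ⊆ (U : Set S)) (H : Over S') [GrpObj H]
    (hH : SGA3x.IsMultTypeFT H) (ω : (Over.map f).obj H ⟶ Red.DS S M) [IsMonHom (toBC f ω)]
    (hc : ∀ (X : Over S') (x : X ⟶ H) (g : X ⟶ Red.bc f G),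
      (x ≫ toBC f ω ≫ (Over.pullback f).map i) * g = g * (x ≫ toBC f ω ≫ (Over.pullback f).map i)) :
    Triv Λ ω := by
  obtain ⟨S'', π, hπf, hπs, hπc, hloc⟩ := hH
  -- it is enough to treat small charts of the cover
  choose U₀ hU₀ P hP hPfg eiso using hloc
  let hom' : ∀ z : S'', Grp.mk (Red.bc ((U₀ z).ι ≫ π) H) ≅ Grp.mk (Red.DS (U₀ z : Scheme.{u}) (P z)) :=
    fun z => (eiso z).some
  have key : ∀ z : S'', ∃ V : S''.Opens, z ∈ V ∧ ∃ hV : V ≤ U₀ z,
      ∀ (X : Over (U₀ z : Scheme.{u})), Set.range X.hom ⊆ (U₀ z).ι ⁻¹' (V : Set S'') →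
        ∀ c : (Over.map ((U₀ z).ι ≫ π)).obj X ⟶ H, Triv Λ ((Over.map f).map c ≫ ω) := fun z => by
    let j₁ := (U₀ z).ι ≫ π
    haveI := hPfg z
    haveI : IsMonHom (bcDS (j₁ ≫ f) M).hom.hom.hom := (bcDS (j₁ ≫ f) M).hom.hom.isMonHom_hom
    obtain ⟨w, hwm, hw₁, hw₂⟩ := exists_chart_hom j₁ f (hom' z) ω (bcDS (j₁ ≫ f) M).hom.hom.hom
    haveI := hwm
    obtain ⟨V', θ, hzV', hθ⟩ := exists_local_DSmap w (⟨z, hU₀ z⟩ : (U₀ z : Scheme.{u}))
    haveI : IsIso (bcDS (j₁ ≫ f) M).hom.hom.hom :=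
      inferInstanceAs (IsIso ((Grp.forget _).map (bcDS (j₁ ≫ f) M).hom))
    -- the kernel of `θ` is central over the residue field
    have hker := centralAt_ker (j₁ ≫ f) i w θ ⟨z, hU₀ z⟩
      (fun X hX x => hθ X (fun r hr => by rw [Set.mem_singleton_iff.1 (hX hr)]; exact hzV') x)
      (fun X x a ha g => by
        obtain ⟨c, hc'⟩ := hw₂ X x
        rw [hc', cancel_mono] at ha
        have e := toBC_inj (j₁ ≫ f) ha
        refine (cancel_epi (mapIso j₁ f X).inv).1 ?_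
        rw [MonObj.comp_mul, MonObj.comp_mul, e]
        simp only [Category.assoc, Iso.inv_hom_id_assoc]
        apply toBC_inj f
        rw [MTBridge.toBC_mul, MTBridge.toBC_mul, toBC_naturality, toBC_comp]
        exact hc _ _ _)
    have hle : Λ ≤ θ.ker := hmin _ _ (by
      show (U₀ z : Scheme.{u}).fromSpecResidueField ⟨z, hU₀ z⟩ _ ∈ (j₁ ≫ f) ⁻¹ᵁ U
      rw [Scheme.fromSpecResidueField_apply]
      exact hf ⟨j₁ ⟨z, hU₀ z⟩, rfl⟩) _ hker
    refine ⟨(U₀ z).ι ''ᵁ V', ⟨⟨z, hU₀ z⟩, hzV', rfl⟩, ?_, fun X hX c => ?_⟩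
    · rintro _ ⟨y, -, rfl⟩
      exact y.2
    · obtain ⟨x, hx⟩ := hw₁ X c
      have hXV : Set.range X.hom ⊆ (V' : Set (U₀ z : Scheme.{u})) := by
        intro r hr
        obtain ⟨r', hr', h⟩ := hX hr
        rwa [← (U₀ z).ι.isOpenEmbedding.injective h]
      intro m hm
      have h := congrArg (fun q => ch q (Multiplicative.ofAdd m)) (hx.symm.trans (hθ X hXV x))
      simp only [ch_toBC_bcDS, ch_DSmap, toAdd_ofAdd] at h
      rw [show θ m = 0 from hle hm, ofAdd_zero, map_one, ch_comp] at h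
      exact h
  choose V hzV hVU hV using key
  -- glue
  have hglue : ω ≫ Red.DSmap S Λ.subtype = 1 := by
    let X₀ := (Over.map f).obj H
    have hcov : CoverMap.Covers π :=
      CoverMap.covers_of_hcov ⟨S'', π, 𝟙 _, Category.id_comp _, hπs, hπf, hπc⟩
    let Y : Over S := Over.mk (pullback.fst H.hom π ≫ X₀.hom)
    let p : Y ⟶ X₀ := Over.homMk (pullback.fst H.hom π) rfl
    haveI := CoverMap.epi_over (f := p) (hcov.of_isPullback (IsPullback.of_hasPullback H.hom π))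
    rw [← cancel_epi p, MonObj.comp_one]
    apply Over.OverMorphism.ext
    let 𝒰 := (Scheme.openCoverOfIsOpenCover S'' V
      (eq_top_iff.2 fun z _ => TopologicalSpace.Opens.mem_iSup.2 ⟨z, hzV z⟩)).pullback₁ (pullback.snd H.hom π)
    refine Scheme.Cover.hom_ext 𝒰 _ _ fun z => ?_
    let W := pullback (pullback.snd H.hom π) (V z).ι
    let s₁ : W ⟶ (U₀ z : Scheme.{u}) := pullback.snd _ _ ≫ S''.homOfLE (hVU z)
    let Z : Over (U₀ z : Scheme.{u}) := Over.mk s₁
    let c : (Over.map ((U₀ z).ι ≫ π)).obj Z ⟶ H :=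
      Over.homMk (pullback.fst (pullback.snd H.hom π) (V z).ι ≫ pullback.fst H.hom π) (by
        show _ = (pullback.snd _ _ ≫ S''.homOfLE (hVU z)) ≫ (U₀ z).ι ≫ π
        simp only [Category.assoc, Scheme.homOfLE_ι_assoc, pullback.condition]
        rw [← pullback.condition_assoc])
    have hZ : Set.range Z.hom ⊆ (U₀ z).ι ⁻¹' (V z : Set S'') := by
      rintro _ ⟨r, rfl⟩
      show ((pullback.snd (pullback.snd H.hom π) (V z).ι ≫ S''.homOfLE (hVU z)) ≫ (U₀ z).ι) r ∈ (V z : Set S'')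
      rw [Category.assoc, Scheme.homOfLE_ι, Scheme.Hom.comp_apply]
      exact Subtype.prop _
    have h1 : (Over.map f).map c ≫ ω ≫ Red.DSmap S Λ.subtype = 1 := ch_ext fun m => by
      rw [← Category.assoc, ch_DSmap, ch_one]
      exact hV z Z hZ c _ m.toAdd.2
    have h2 := congrArg (fun q => q.left) h1
    have h3 := congrArg (fun q => q.left)
      (MonObj.comp_one ((Over.map f).map c) : (Over.map f).map c ≫ (1 : X₀ ⟶ Red.DS S Λ) = 1)
    refine Eq.trans ?_ (h2.trans (h3.symm.trans ?_))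
    · show _ ≫ pullback.fst H.hom π ≫ _ = (_ ≫ pullback.fst H.hom π) ≫ _
      rw [Category.assoc]; rfl
    · show (_ ≫ pullback.fst H.hom π) ≫ _ = _ ≫ _
      have h4 := congrArg (fun q => q.left) (MonObj.comp_one p : p ≫ (1 : X₀ ⟶ Red.DS S Λ) = 1)
      exact (Category.assoc _ _ _).trans (congrArg (_ ≫ ·) h4)
  intro m hm
  have h := congrArg (fun q => ch q (Multiplicative.ofAdd (⟨m, hm⟩ : Λ))) hglue
  simp only [ch_DSmap, ch_one] at h
  exact h

end Groth.Agent.MTCentre
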