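import Groth.Agent.MTCentre.Basic
import Groth.Agent.SmoothRed.Scheme

/-!
# Finitely many conditions govern the centrality of subgroups of a split torus
-/

set_option autoImplicit false
set_option linter.style.haveILetI false
set_option backward.isDefEq.respectTransparency false
set_option maxHeartbeats 1000000
set_option synthInstance.maxHeartbeats 400000

universe u

open CategoryTheory Limits MonoidalCategory CartesianMonoidalCategory MonObj AlgebraicGeometry
open scoped CategoryTheory.Obj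

noncomputable section

namespace Groth.Agent.MTCentre

open Groth.Agent.MTBridge Groth.Agent.HomDiag

theorem appTop_toSpecΓ {A : Type u} [CommRing A] {Y : Scheme.{u}} (φ : A →+* Γ(Y, ⊤)) :
    (Scheme.ΓSpecIso (CommRingCat.of A)).inv ≫ (Y.toSpecΓ ≫ Spec.map (CommRingCat.ofHom φ)).appTop =
      CommRingCat.ofHom φ := by
  rw [Scheme.Hom.comp_appTop, ← Scheme.ΓSpecIso_inv_naturality_assoc, Scheme.toSpecΓ_appTop,
    Iso.inv_hom_id, Category.comp_id]

theorem appTop_specMap_isoSpec_inv {P : Scheme.{u}} [IsAffine P] {B : Type u} [CommRing B] (φ : Γ(P, ⊤) →+* B) :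
    (Spec.map (CommRingCat.ofHom φ) ≫ P.isoSpec.inv).appTop =
      CommRingCat.ofHom φ ≫ (Scheme.ΓSpecIso (CommRingCat.of B)).inv := by
  have h : P.isoSpec.inv.appTop = (Scheme.ΓSpecIso Γ(P, ⊤)).inv := by
    rw [← cancel_epi P.toSpecΓ.appTop, ← Scheme.Hom.comp_appTop, Scheme.isoSpec_inv_toSpecΓ,
      Scheme.toSpecΓ_appTop, Iso.hom_inv_id]
    exact Scheme.Hom.id_appTop
  rw [Scheme.Hom.comp_appTop, h]
  exact (Scheme.ΓSpecIso_inv_naturality (CommRingCat.ofHom φ)).symm

variable {S : Scheme.{u}} {M : Type} [AddCommGroup M] {G : Over S} [GrpObj G]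

/-- The value at a pair of points of an element of the group algebra of functions. -/
def ev {X : Over S} (x : X ⟶ Red.DS S M) (g : X ⟶ G) : MonoidAlgebra Γ(G.left, ⊤) (Multiplicative M) →+* Γ(X.left, ⊤) :=
  MonoidAlgebra.liftNCRingHom g.left.appTop.hom (ch x) fun _ _ => Commute.all _ _

theorem ev_single {X : Over S} (x : X ⟶ Red.DS S M) (g : X ⟶ G) (m : Multiplicative M) (c : Γ(G.left, ⊤)) :
    ev x g (MonoidAlgebra.single m c) = g.left.appTop c * ch x m :=
  MonoidAlgebra.liftNCRingHom_single _ _ _ _ _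

/-- The universal commutator, as a pair of maps into the group algebra. -/
theorem exists_classifying [IsAffine G.left] (i : Red.DS S M ⟶ G) :
    ∃ γ₁ γ₂ : Γ(G.left, ⊤) →+* MonoidAlgebra Γ(G.left, ⊤) (Multiplicative M),
      γ₁.comp G.hom.appTop.hom = γ₂.comp G.hom.appTop.hom ∧
      ∀ (X : Over S) (x : X ⟶ Red.DS S M) (g : X ⟶ G),
        (x ≫ i) * g = g * (x ≫ i) ↔ (ev x g).comp γ₁ = (ev x g).comp γ₂ := by
  let A : Type u := Γ(G.left, ⊤)
  let AM : Type u := MonoidAlgebra A (Multiplicative M)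
  let pr : Spec (CommRingCat.of AM) ⟶ G.left :=
    Spec.map (CommRingCat.ofHom (algebraMap A AM)) ≫ G.left.isoSpec.inv
  let X₁ : Over S := Over.mk (pr ≫ G.hom)
  let g₁ : X₁ ⟶ G := Over.homMk pr rfl
  obtain ⟨x₁, hx₁⟩ := exists_ch (S := S) (X := X₁)
    ((Scheme.ΓSpecIso (CommRingCat.of AM)).inv.hom.toMonoidHom.comp (MonoidAlgebra.of A (Multiplicative M)))
  let cl : (X₁ ⟶ G) → (A →+* AM) := fun h => (h.left.appTop ≫ (Scheme.ΓSpecIso (CommRingCat.of AM)).hom).hom
  refine ⟨cl ((x₁ ≫ i) * g₁), cl (g₁ * (x₁ ≫ i)), ?_, fun X x g => ?_⟩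
  · have e : ∀ h : X₁ ⟶ G, G.hom.appTop ≫ h.left.appTop = X₁.hom.appTop := fun h => by
      rw [← Scheme.Hom.comp_appTop, Over.w h]
    apply RingHom.ext
    intro r
    show (Scheme.ΓSpecIso (CommRingCat.of AM)).hom (((x₁ ≫ i) * g₁).left.appTop (G.hom.appTop r)) =
      (Scheme.ΓSpecIso (CommRingCat.of AM)).hom ((g₁ * (x₁ ≫ i)).left.appTop (G.hom.appTop r))
    have e₁ := ConcreteCategory.congr_hom (e ((x₁ ≫ i) * g₁)) r
    have e₂ := ConcreteCategory.congr_hom (e (g₁ * (x₁ ≫ i))) r
    simp only [CommRingCat.hom_comp, RingHom.comp_apply] at e₁ e₂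
    rw [e₁, e₂]
  let φ : AM →+* Γ(X.left, ⊤) := ev x g
  let rl : X.left ⟶ Spec (CommRingCat.of AM) := X.left.toSpecΓ ≫ Spec.map (CommRingCat.ofHom φ)
  have hφ : φ.comp (algebraMap A AM) = g.left.appTop.hom := RingHom.ext fun a => by
    show ev x g (MonoidAlgebra.single 1 a) = _
    rw [ev_single, map_one, _root_.mul_one]
  have hpr : rl ≫ pr = g.left := by
    show X.left.toSpecΓ ≫ Spec.map _ ≫ Spec.map _ ≫ G.left.isoSpec.inv = _
    rw [← Spec.map_comp_assoc, ← CommRingCat.ofHom_comp, hφ, CommRingCat.ofHom_hom,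
      ← Scheme.toSpecΓ_naturality_assoc, ← G.left.isoSpec_hom, Iso.hom_inv_id, Category.comp_id]
  let r : X ⟶ X₁ := Over.homMk rl (by
    show rl ≫ pr ≫ G.hom = X.hom
    rw [reassoc_of% hpr, Over.w g])
  have hr₁ : r ≫ g₁ = g := Over.OverMorphism.ext hpr
  have hr₂ : r ≫ x₁ = x := ch_ext fun m => by
    rw [ch_comp, hx₁]
    refine (ConcreteCategory.congr_hom (appTop_toSpecΓ φ) (MonoidAlgebra.single m 1)).trans ?_
    show ev x g (MonoidAlgebra.single m 1) = _
    rw [ev_single, map_one, _root_.one_mul]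
  have key : ∀ h : X₁ ⟶ G, (r ≫ h).left.appTop.hom = φ.comp (cl h) := fun h => by
    apply RingHom.ext
    intro a
    show rl.appTop (h.left.appTop a) = φ ((Scheme.ΓSpecIso (CommRingCat.of AM)).hom (h.left.appTop a))
    refine Eq.trans ?_ (ConcreteCategory.congr_hom (appTop_toSpecΓ φ) _)
    exact congrArg rl.appTop
      (ConcreteCategory.congr_hom (Scheme.ΓSpecIso (CommRingCat.of AM)).hom_inv_id (h.left.appTop a)).symm
  rw [← hr₁, ← hr₂, Category.assoc, ← MonObj.comp_mul, ← MonObj.comp_mul]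
  rw [hr₁, hr₂, ← key, ← key]
  refine ⟨fun h => by rw [h], fun h => Over.OverMorphism.ext (ext_of_isAffine (CommRingCat.hom_ext h))⟩

/-- Elements agreeing under pushforward to a quotient of their support agree. -/
theorem mapDomain_eq_zero_of_factor {R A B C : Type*} [Semiring R] (f : A → B) (f' : A → C) (F : Finset A)
    (h : ∀ a ∈ F, ∀ b ∈ F, f a = f b → f' a = f' b) (d : MonoidAlgebra R A) (hd : d.coeff.support ⊆ F)
    (h0 : MonoidAlgebra.mapDomain f d = 0) : MonoidAlgebra.mapDomain f' d = 0 := by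
  classical
  have h0' : Finsupp.mapDomain f d.coeff = 0 := congrArg MonoidAlgebra.coeff h0
  by_cases hF : F.Nonempty
  · haveI : Nonempty A := ⟨hF.choose⟩
    let σ : B → C := fun b => f' (if hb : ∃ a ∈ F, f a = b then hb.choose else Classical.arbitrary A)
    have e : Finsupp.mapDomain f' d.coeff = Finsupp.mapDomain (σ ∘ f) d.coeff :=
      Finsupp.mapDomain_congr fun a ha => by
        have hb : ∃ a' ∈ F, f a' = f a := ⟨a, hd ha, rfl⟩
        simp only [σ, Function.comp, dif_pos hb]
        exact h a (hd ha) _ hb.choose_spec.1 hb.choose_spec.2.symm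
    rw [Finsupp.mapDomain_comp, h0', Finsupp.mapDomain_zero] at e
    exact congrArg MonoidAlgebra.ofCoeff e
  · have : d.coeff.support = ∅ := Finset.subset_empty.1 (Finset.not_nonempty_iff_eq_empty.1 hF ▸ hd)
    rw [Finsupp.support_eq_empty] at this
    show MonoidAlgebra.ofCoeff (Finsupp.mapDomain f' d.coeff) = 0
    rw [this, Finsupp.mapDomain_zero]
    rfl

/-- **Centrality is governed by finitely many functions on the group.** -/
theorem exists_weights [IsAffine S] [IsAffineHom G.hom] [LocallyOfFiniteType G.hom] (i : Red.DS S M ⟶ G) :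
    ∃ (D : Finset M) (E : AddSubgroup M → Set Γ(G.left, ⊤)),
      (∀ (T : Scheme.{u}) [IsAffine T] (k : T ⟶ S) (Λ : AddSubgroup M),
        CentralAt i Λ k ↔ ∀ e ∈ E Λ, (pullback.fst G.hom k).appTop e = 0) ∧
      ∀ (T : Scheme.{u}) [IsAffine T] (k : T ⟶ S) (Λ : AddSubgroup M),
        CentralAt i Λ k → CentralAt i (AddSubgroup.closure ((Λ : Set M) ∩ D)) k := by
  classical
  haveI : IsAffine G.left := isAffine_of_isAffineHom G.hom
  obtain ⟨γ₁, γ₂, hbase, hcl⟩ := exists_classifying i
  let A : Type u := Γ(G.left, ⊤)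
  let AM : Type u := MonoidAlgebra A (Multiplicative M)
  have hft : (G.hom.appTop.hom).FiniteType :=
    (HasRingHomProperty.iff_of_isAffine (P := @LocallyOfFiniteType)).1 ‹_›
  letI : Algebra Γ(S, ⊤) A := G.hom.appTop.hom.toAlgebra
  obtain ⟨s, hs⟩ := (show Algebra.FiniteType Γ(S, ⊤) A from hft).out
  let d : A → AM := fun a => γ₁ a - γ₂ a
  let π : ∀ Λ : AddSubgroup M, AM →+* MonoidAlgebra A (Multiplicative (M ⧸ Λ)) := fun Λ =>
    MonoidAlgebra.mapDomainRingHom A (AddMonoidHom.toMultiplicative (QuotientAddGroup.mk' Λ))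
  let F : Finset (Multiplicative M) := s.biUnion fun a => (d a).coeff.support
  let D : Finset M := (F ×ˢ F).image fun p => p.1.toAdd - p.2.toAdd
  have hπ : ∀ (Λ : AddSubgroup M) (m : Multiplicative M) (c : A), π Λ (MonoidAlgebra.single m c) =
      MonoidAlgebra.single ((AddMonoidHom.toMultiplicative (QuotientAddGroup.mk' Λ)) m) c := fun Λ m c =>
    MonoidAlgebra.mapDomain_single
  let E : AddSubgroup M → Set A := fun Λ => {e | ∃ a ∈ s, ∃ c, (π Λ (d a)).coeff c = e}
  have iff₁ : ∀ (T : Scheme.{u}) [IsAffine T] (k : T ⟶ S) (Λ : AddSubgroup M),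
      CentralAt i Λ k ↔ ∀ a ∈ s, MonoidAlgebra.mapRingHom (Multiplicative (M ⧸ Λ))
        (pullback.fst G.hom k).appTop.hom (π Λ (d a)) = 0 := by
    intro T _ k Λ
    let P := pullback G.hom k
    haveI : IsAffineHom (pullback.snd G.hom k) := MorphismProperty.pullback_snd (P := @IsAffineHom) _ _ ‹_›
    haveI : IsAffine P := isAffine_of_isAffineHom (pullback.snd G.hom k)
    let β : A →+* Γ(P, ⊤) := (pullback.fst G.hom k).appTop.hom
    let B : Type u := MonoidAlgebra Γ(P, ⊤) (Multiplicative (M ⧸ Λ))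
    constructor
    · intro h a _
      let st : Spec (CommRingCat.of B) ⟶ P := Spec.map (CommRingCat.ofHom (algebraMap Γ(P, ⊤) B)) ≫ P.isoSpec.inv
      let X : Over S := Over.mk (st ≫ pullback.fst G.hom k ≫ G.hom)
      let g : X ⟶ G := Over.homMk (st ≫ pullback.fst G.hom k) (Category.assoc _ _ _)
      obtain ⟨x, hx⟩ := exists_ch (S := S) (X := X)
        ((Scheme.ΓSpecIso (CommRingCat.of B)).inv.hom.toMonoidHom.comp ((MonoidAlgebra.of Γ(P, ⊤) _).comp
          (AddMonoidHom.toMultiplicative (QuotientAddGroup.mk' Λ))))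
      have hxt : Triv Λ x := fun m hm => by
        rw [hx]
        show (Scheme.ΓSpecIso (CommRingCat.of B)).inv
          (MonoidAlgebra.single (Multiplicative.ofAdd ((m : M) : M ⧸ Λ)) 1) = 1
        rw [(QuotientAddGroup.eq_zero_iff m).2 hm, ofAdd_zero, ← MonoidAlgebra.one_def, map_one]
      have hc := (hcl X x g).1 (h X (st ≫ pullback.snd G.hom k) (by
        rw [Category.assoc, ← pullback.condition]; rfl) x hxt g)
      have e : ev x g = (Scheme.ΓSpecIso (CommRingCat.of B)).inv.hom.comp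
          ((MonoidAlgebra.mapRingHom (Multiplicative (M ⧸ Λ)) β).comp (π Λ)) := by
        refine MonoidAlgebra.ringHom_ext (fun c => ?_) (fun m => ?_)
        · rw [ev_single, map_one, _root_.mul_one]
          have h1 : g.left.appTop = (pullback.fst G.hom k).appTop ≫
              CommRingCat.ofHom (algebraMap Γ(P, ⊤) B) ≫ (Scheme.ΓSpecIso (CommRingCat.of B)).inv := by
            show (st ≫ pullback.fst G.hom k).appTop = _
            rw [Scheme.Hom.comp_appTop, appTop_specMap_isoSpec_inv]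
          rw [h1]
          show _ = (Scheme.ΓSpecIso (CommRingCat.of B)).inv
            (MonoidAlgebra.mapRingHom (Multiplicative (M ⧸ Λ)) β (π Λ (MonoidAlgebra.single 1 c)))
          rw [hπ, map_one, MonoidAlgebra.mapRingHom_single]
          rfl
        · rw [ev_single, map_one, _root_.one_mul, hx]
          show _ = (Scheme.ΓSpecIso (CommRingCat.of B)).inv
            (MonoidAlgebra.mapRingHom (Multiplicative (M ⧸ Λ)) β (π Λ (MonoidAlgebra.single m 1)))
          rw [hπ, MonoidAlgebra.mapRingHom_single, map_one]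
          rfl
      have h1 : ev x g (d a) = 0 := by
        rw [map_sub, sub_eq_zero]
        exact RingHom.congr_fun hc a
      rw [e] at h1
      exact (map_eq_zero_iff (Scheme.ΓSpecIso (CommRingCat.of B)).inv.hom
        (ConcreteCategory.bijective_of_isIso (Scheme.ΓSpecIso (CommRingCat.of B)).inv).1).1 h1
    · intro h X a ha x hx g
      rw [hcl]
      obtain ⟨y, rfl⟩ := exists_factor_triv hx
      let l : X.left ⟶ P := pullback.lift g.left a (by rw [Over.w g, ha])
      let ψ : B →+* Γ(X.left, ⊤) := MonoidAlgebra.liftNCRingHom l.appTop.hom (ch y) fun _ _ => Commute.all _ _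
      have e : ev (y ≫ Red.DSmap S (QuotientAddGroup.mk' Λ)) g =
          ψ.comp ((MonoidAlgebra.mapRingHom (Multiplicative (M ⧸ Λ)) β).comp (π Λ)) := by
        refine MonoidAlgebra.ringHom_ext (fun c => ?_) (fun m => ?_)
        · rw [ev_single, map_one, _root_.mul_one]
          have h1 : g.left.appTop = (pullback.fst G.hom k).appTop ≫ l.appTop := by
            rw [← Scheme.Hom.comp_appTop, pullback.lift_fst]
          rw [h1]
          show _ = ψ (MonoidAlgebra.mapRingHom (Multiplicative (M ⧸ Λ)) β (π Λ (MonoidAlgebra.single 1 c)))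
          rw [hπ, map_one, MonoidAlgebra.mapRingHom_single]
          refine Eq.trans ?_ (MonoidAlgebra.liftNCRingHom_single _ _ _ _ _).symm
          rw [map_one, _root_.mul_one]
          rfl
        · rw [ev_single, map_one, _root_.one_mul, ch_DSmap]
          show _ = ψ (MonoidAlgebra.mapRingHom (Multiplicative (M ⧸ Λ)) β (π Λ (MonoidAlgebra.single m 1)))
          rw [hπ, MonoidAlgebra.mapRingHom_single, map_one]
          refine Eq.trans ?_ (MonoidAlgebra.liftNCRingHom_single _ _ _ _ _).symm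
          rw [map_one, _root_.one_mul]
          rfl
      rw [e]
      have hsub : ∀ a : A, a ∈ Algebra.adjoin Γ(S, ⊤) (s : Set A) →
          ψ.comp ((MonoidAlgebra.mapRingHom (Multiplicative (M ⧸ Λ)) β).comp (π Λ)) (γ₁ a) =
          ψ.comp ((MonoidAlgebra.mapRingHom (Multiplicative (M ⧸ Λ)) β).comp (π Λ)) (γ₂ a) := fun a ha => by
        refine Algebra.adjoin_induction (fun b hb => ?_) (fun r => ?_) (fun p q _ _ hp hq => ?_)
          (fun p q _ _ hp hq => ?_) ha
        · rw [← sub_eq_zero, ← map_sub]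
          show ψ (MonoidAlgebra.mapRingHom _ β (π Λ (d b))) = 0
          rw [h b hb, map_zero]
        · exact congrArg _ (RingHom.congr_fun hbase r)
        · simp only [map_add, hp, hq]
        · simp only [map_mul, hp, hq]
      exact RingHom.ext fun a => hsub a (hs ▸ Algebra.mem_top)
  refine ⟨D, E, fun T _ k Λ => (iff₁ T k Λ).trans ⟨?_, ?_⟩, fun T _ k Λ hΛ => ?_⟩
  · rintro h _ ⟨a, ha, c, rfl⟩
    have := congrArg (fun z => MonoidAlgebra.coeff z c) (h a ha)
    simpa [MonoidAlgebra.coeff_mapRingHom] using this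
  · intro h a ha
    refine MonoidAlgebra.ext (Finsupp.ext fun c => ?_)
    rw [MonoidAlgebra.coeff_mapRingHom]
    exact h _ ⟨a, ha, c, rfl⟩
  refine (iff₁ T k _).2 fun a ha => ?_
  let β : A →+* Γ(pullback G.hom k, ⊤) := (pullback.fst G.hom k).appTop.hom
  let δ := MonoidAlgebra.mapRingHom (Multiplicative M) β (d a)
  have hnat : ∀ Λ' : AddSubgroup M, MonoidAlgebra.mapRingHom (Multiplicative (M ⧸ Λ')) β (π Λ' (d a)) =
      MonoidAlgebra.mapDomain (AddMonoidHom.toMultiplicative (QuotientAddGroup.mk' Λ')) δ := fun Λ' => by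
    have e : (MonoidAlgebra.mapRingHom (Multiplicative (M ⧸ Λ')) β).comp (π Λ') =
        (MonoidAlgebra.mapDomainRingHom _ (AddMonoidHom.toMultiplicative (QuotientAddGroup.mk' Λ'))).comp
          (MonoidAlgebra.mapRingHom (Multiplicative M) β) :=
      MonoidAlgebra.ringHom_ext (fun c => by simp [π]) (fun m => by simp [π])
    exact RingHom.congr_fun e (d a)
  refine (hnat _).trans (mapDomain_eq_zero_of_factor
    (AddMonoidHom.toMultiplicative (QuotientAddGroup.mk' Λ)) _ F (fun m hm n hn he => ?_) δ ?_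
    ((hnat Λ).symm.trans ((iff₁ T k Λ).1 hΛ a ha)))
  · show Multiplicative.ofAdd (QuotientAddGroup.mk' _ m.toAdd) = Multiplicative.ofAdd (QuotientAddGroup.mk' _ n.toAdd)
    refine congrArg Multiplicative.ofAdd ((QuotientAddGroup.eq_iff_sub_mem).2 (AddSubgroup.subset_closure ⟨?_, ?_⟩))
    · exact (QuotientAddGroup.eq_iff_sub_mem).1 (congrArg Multiplicative.toAdd he)
    · exact Finset.mem_coe.2 (Finset.mem_image.2 ⟨(m, n), Finset.mem_product.2 ⟨hm, hn⟩, rfl⟩)
  · intro m hm
    refine Finset.mem_biUnion.2 ⟨a, ha, ?_⟩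
    rw [Finsupp.mem_support_iff] at hm ⊢
    intro h0
    apply hm
    simp [δ, MonoidAlgebra.coeff_mapRingHom, h0]

/-- On a field-valued point centrality only depends on the image. -/
theorem exists_weights_points [IsAffine S] [IsAffineHom G.hom] [Smooth G.hom] (i : Red.DS S M ⟶ G) :
    ∃ (D : Finset M) (E : AddSubgroup M → Set Γ(G.left, ⊤)),
      (∀ (K : Type u) [Field K] (k : Spec (CommRingCat.of K) ⟶ S) (Λ : AddSubgroup M),
        CentralAt i Λ k ↔ ∀ e ∈ E Λ, ∀ q ∈ G.left.basicOpen e, G.hom q ≠ k (IsLocalRing.closedPoint K)) ∧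
      ∀ (K : Type u) [Field K] (k : Spec (CommRingCat.of K) ⟶ S) (Λ : AddSubgroup M),
        CentralAt i Λ k → CentralAt i (AddSubgroup.closure ((Λ : Set M) ∩ D)) k := by
  obtain ⟨D, E, hE, hD⟩ := exists_weights i
  refine ⟨D, E, fun K _ k Λ => (hE _ k Λ).trans (forall₂_congr fun e _ => ?_), fun K _ k Λ => hD _ k Λ⟩
  haveI : Smooth (pullback.snd G.hom k) := inferInstance
  haveI : IsReduced (pullback G.hom k) := SmoothRed.isReduced_of_smooth_scheme (pullback.snd G.hom k)
  haveI : Subsingleton ↥(Spec (CommRingCat.of K)) := inferInstanceAs (Subsingleton (PrimeSpectrum K))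
  rw [← basicOpen_eq_bot_iff, ← Scheme.preimage_basicOpen_top]
  constructor
  · intro h q hq hqk
    obtain ⟨z, hz⟩ : q ∈ Set.range (pullback.fst G.hom k) := by
      rw [Scheme.Pullback.range_fst]; exact ⟨_, hqk.symm⟩
    have : z ∈ (pullback.fst G.hom k) ⁻¹ᵁ G.left.basicOpen e := show pullback.fst G.hom k z ∈ _ by rw [hz]; exact hq
    rw [h] at this
    exact this
  · intro h
    refine eq_bot_iff.2 fun z hz => (h _ hz ?_).elim
    rw [← Scheme.Hom.comp_apply, pullback.condition, Scheme.Hom.comp_apply,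
      Subsingleton.elim (pullback.snd G.hom k z) (IsLocalRing.closedPoint K)]

end Groth.Agent.MTCentre
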